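import Cfsg.Prelude.Def_SporCoxeter

/-!
# The sub-presentation of the O'Nan presentation on the generators a, …, f  (helper28, for S1693)

`K = ⟨a, b, c, d, e, f | Coxeter path a –3– b –3– c –8– d –3– e –3– f, a f = (c d)^4⟩`
(the relators of `Cfsg.Spor.ON` that do not involve `g`).  This is L₃(7):2.
-/
set_option autoImplicit false

namespace Cfsg.Agent.Helper28

namespace L37K

/-- The generators a, b, c, d, e, f. -/
inductive Gen
  | a
  | b
  | c
  | d
  | e
  | f
  deriving DecidableEq

/-- the generator a as a word -/ abbrev a : FreeGroup Gen := FreeGroup.of Gen.a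
/-- the generator b as a word -/ abbrev b : FreeGroup Gen := FreeGroup.of Gen.b
/-- the generator c as a word -/ abbrev c : FreeGroup Gen := FreeGroup.of Gen.c
/-- the generator d as a word -/ abbrev d : FreeGroup Gen := FreeGroup.of Gen.d
/-- the generator e as a word -/ abbrev e : FreeGroup Gen := FreeGroup.of Gen.e
/-- the generator f as a word -/ abbrev f : FreeGroup Gen := FreeGroup.of Gen.f

/-- The Coxeter path a –3– b –3– c –8– d –3– e –3– f. -/
def edges : List (Gen × ℕ × Gen) :=
  [(.a, 3, .b), (.b, 3, .c), (.c, 8, .d), (.d, 3, .e), (.e, 3, .f)]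

/-- The further relator a f = (c d)^4. -/
def extra : List (FreeGroup Gen) := [
  (a * f) * (((c * d) ^ 4)⁻¹) ]

end L37K

/-- The group `K` (isomorphic to L₃(7):2) as a finitely presented group. -/
abbrev L37KGroup : Type := Cfsg.Spor.CoxPresented L37K.Gen L37K.edges L37K.extra

end Cfsg.Agent.Helper28
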