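import Mathlib
import Cfsg.Agent.Lib.Helper98.WR0

/-!
# WR project (S2347, server helper98), piece M0: `GL_n` is transitive on nonzero vectors.
-/

set_option autoImplicit false

namespace Cfsg.Agent.Helper28.WR

open Matrix

section CNT

variable {F : Type*} [Field F] {n : ℕ}

/-- a linear automorphism of `Fin n → F` as an element of `GL_n` -/
theorem h28_exists_gl_of_linearEquiv (g : (Fin n → F) ≃ₗ[F] (Fin n → F)) :
    ∃ G : GL (Fin n) F, ∀ v : Fin n → F, (G : Matrix (Fin n) (Fin n) F) *ᵥ v = g v := by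
  refine ⟨⟨LinearMap.toMatrix' g.toLinearMap, LinearMap.toMatrix' g.symm.toLinearMap, ?_, ?_⟩, ?_⟩
  · rw [← LinearMap.toMatrix'_comp]
    have : g.toLinearMap ∘ₗ g.symm.toLinearMap = LinearMap.id := by
      ext v : 1
      simp
    rw [this, LinearMap.toMatrix'_id]
  · rw [← LinearMap.toMatrix'_comp]
    have : g.symm.toLinearMap ∘ₗ g.toLinearMap = LinearMap.id := by
      ext v : 1
      simp
    rw [this, LinearMap.toMatrix'_id]
  · intro v
    change (LinearMap.toMatrix' g.toLinearMap) *ᵥ v = g v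
    rw [LinearMap.toMatrix'_mulVec]
    rfl

/-- piece M0. `GL_n` is transitive on nonzero vectors. -/
theorem exists_gl_vec (x x₀ : Fin n → F) (hx : x ≠ 0) (hx₀ : x₀ ≠ 0) :
    ∃ g : GL (Fin n) F, (g : Matrix (Fin n) (Fin n) F) *ᵥ x = x₀ := by
  classical
  let e := LinearEquiv.toSpanNonzeroSingleton F (Fin n → F) x hx
  let e₀ := LinearEquiv.toSpanNonzeroSingleton F (Fin n → F) x₀ hx₀
  let f : (Submodule.span F {x}) ≃ₗ[F] (Submodule.span F {x₀}) := e.symm.trans e₀
  obtain ⟨g, hg⟩ := Submodule.exists_linearEquiv_restrict_eq f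
  obtain ⟨G, hG⟩ := h28_exists_gl_of_linearEquiv g
  refine ⟨G, ?_⟩
  rw [hG]
  have h1 := hg ⟨x, Submodule.mem_span_singleton_self x⟩
  have h2 : f ⟨x, Submodule.mem_span_singleton_self x⟩ = ⟨x₀, Submodule.mem_span_singleton_self x₀⟩ := by
    change e₀ (e.symm ⟨x, Submodule.mem_span_singleton_self x⟩) = _
    have : e.symm ⟨x, Submodule.mem_span_singleton_self x⟩ = 1 := by
      rw [LinearEquiv.symm_apply_eq]
      apply Subtype.ext
      simp [e]
    rw [this]
    apply Subtype.ext
    simp [e₀]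
  rw [h2] at h1
  exact h1.symm

end CNT

end Cfsg.Agent.Helper28.WR
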