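import Cfsg.Agent.Lib.Helper28.L37KT.Final
import Cfsg.Agent.Lib.Helper28.L37WT.Final
import Cfsg.Agent.Lib.Helper92.Fi22Glue

/-!
# `|K| ≤ 3753792` for `K = ⟨a..f | path 3,3,8,3,3, a f = (c d)^4⟩` (helper28, TC piece of the L37 server, S1693)

`[K : ⟨a,b,c,e,f⟩] = 26068` (verified coset table `L37KT`), and `⟨a,b,c,e,f⟩` is an image of the Coxeter group
`W` of type `A₃ × A₂` which has order `144` (verified coset table `L37WT`).
-/

set_option autoImplicit false
set_option maxRecDepth 100000

namespace Cfsg.Agent.Helper28.L37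

open Cfsg.Agent.Helper28

/-- `d = 1` in `W`. -/
theorem mk_d_W : PresentedGroup.mk L37WT.rels L37W.d = 1 :=
  PresentedGroup.one_of_mem (Or.inr (List.Mem.head _))

/-- the subgroup generated by `d` in `W` is trivial -/
theorem subH_W_eq_bot : subH L37WT.rels L37WT.S = ⊥ := by
  unfold subH
  rw [MonoidHom.map_closure]
  have : (PresentedGroup.mk L37WT.rels) '' L37WT.S = {1} := by
    ext x
    constructor
    · rintro ⟨s, hs, rfl⟩
      have hs' : s = L37W.d := hs
      rw [hs']
      exact mk_d_W
    · intro hx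
      refine ⟨L37W.d, rfl, ?_⟩
      rw [mk_d_W]
      exact hx.symm
  rw [this, Subgroup.closure_singleton_one]

/-- `|W| = 144`. -/
theorem card_W : Nat.card L37WGroup = 144 := by
  have h := L37WT.index_thm
  rw [subH_W_eq_bot, Subgroup.index_bot] at h
  exact h

instance finite_W : Finite L37WGroup := Nat.finite_of_card_ne_zero (by rw [card_W]; norm_num)

/-- images of the generators of `W` in `K` -/
def genMap : L37W.Gen → L37KGroup
  | .a => PresentedGroup.of L37K.Gen.a
  | .b => PresentedGroup.of L37K.Gen.b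
  | .c => PresentedGroup.of L37K.Gen.c
  | .d => 1
  | .e => PresentedGroup.of L37K.Gen.e
  | .f => PresentedGroup.of L37K.Gen.f

/-- a Coxeter relator of `K` is trivial in `K` -/
theorem cox_K (x y : L37K.Gen) (hx : x ∈ Cfsg.Spor.coxNodes L37K.edges)
    (hy : y ∈ Cfsg.Spor.coxNodes L37K.edges) (m : ℕ) (hm : Cfsg.Spor.coxLabel L37K.edges x y = m) :
    ((PresentedGroup.of x : L37KGroup) * PresentedGroup.of y) ^ m = 1 := by
  have : (FreeGroup.of x * FreeGroup.of y) ^ Cfsg.Spor.coxLabel L37K.edges x y ∈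
      Cfsg.Spor.coxRelators L37K.edges ∪ {r | r ∈ L37K.extra} :=
    Or.inl ⟨x, hx, y, hy, rfl⟩
  have h1 := PresentedGroup.one_of_mem this
  rw [hm, map_pow, map_mul] at h1
  exact h1

theorem genMap_rel : ∀ r ∈ L37WT.rels, FreeGroup.lift genMap r = 1 := by
  intro r hr
  rcases hr with ⟨x, hx, y, hy, rfl⟩ | hr
  · rw [map_pow, map_mul, FreeGroup.lift_apply_of, FreeGroup.lift_apply_of]
    cases x <;> cases y <;>
      first
        | exact absurd hx (by decide)
        | exact absurd hy (by decide)
        | exact cox_K _ _ (by decide) (by decide) _ (by decide)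
  · have hr' : r = L37W.d := by
      have : r ∈ [L37W.d] := hr
      simpa using this
    rw [hr']
    exact FreeGroup.lift_apply_of

/-- the homomorphism `W → K` -/
def homWK : L37WGroup →* L37KGroup := PresentedGroup.toGroup genMap_rel

theorem homWK_of (x : L37W.Gen) : homWK (PresentedGroup.of x) = genMap x :=
  PresentedGroup.toGroup.of genMap_rel

theorem subH_K_le_range : subH L37KT.rels L37KT.S ≤ homWK.range := by
  unfold subH
  rw [MonoidHom.map_closure, Subgroup.closure_le]
  rintro _ ⟨s, hs, rfl⟩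
  rcases hs with rfl | rfl | rfl | rfl | rfl
  · exact ⟨PresentedGroup.of L37W.Gen.a, homWK_of _⟩
  · exact ⟨PresentedGroup.of L37W.Gen.b, homWK_of _⟩
  · exact ⟨PresentedGroup.of L37W.Gen.c, homWK_of _⟩
  · exact ⟨PresentedGroup.of L37W.Gen.e, homWK_of _⟩
  · exact ⟨PresentedGroup.of L37W.Gen.f, homWK_of _⟩

/-- **TC piece of L37.** `K` is finite of order at most `3753792 = 2 * |PSL(3,7)|`. -/
theorem card_K_le : Finite L37KGroup ∧ Nat.card L37KGroup ≤ 3753792 := by
  have h := Cfsg.Agent.Helper92.Fi22Glue.finite_card_le_of_index (subH L37KT.rels L37KT.S) 26068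
    (by norm_num) L37KT.index_thm homWK subH_K_le_range
  rw [card_W] at h
  exact ⟨h.1, by simpa using h.2⟩

end Cfsg.Agent.Helper28.L37
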