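import Cfsg.Prelude.Def_SporCoxeter

/-!
# The Coxeter group of type A₃ × A₂ on generators a, b, c, e, f, with an extra trivial generator d
(helper28, for S1693): it maps onto the subgroup ⟨a, b, c, e, f⟩ of `L37KGroup` and has order 144.
-/
set_option autoImplicit false

namespace Cfsg.Agent.Helper28

namespace L37W

/-- The generators a, b, c, d, e, f. -/
inductive Gen
  | a
  | b
  | c
  | d
  | e
  | f
  deriving DecidableEq

/-- the generator a as a word -/ abbrev a : FreeGroup Gen := FreeGroup.of Gen.a
/-- the generator b as a word -/ abbrev b : FreeGroup Gen := FreeGroup.of Gen.b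
/-- the generator c as a word -/ abbrev c : FreeGroup Gen := FreeGroup.of Gen.c
/-- the generator d as a word -/ abbrev d : FreeGroup Gen := FreeGroup.of Gen.d
/-- the generator e as a word -/ abbrev e : FreeGroup Gen := FreeGroup.of Gen.e
/-- the generator f as a word -/ abbrev f : FreeGroup Gen := FreeGroup.of Gen.f

/-- The Coxeter graph a –3– b –3– c, e –3– f (d is not a node). -/
def edges : List (Gen × ℕ × Gen) :=
  [(.a, 3, .b), (.b, 3, .c), (.e, 3, .f)]

/-- The further relator d = 1. -/
def extra : List (FreeGroup Gen) := [
  d ]

end L37W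

/-- The Coxeter group A₃ × A₂ (with a trivial extra generator d). -/
abbrev L37WGroup : Type := Cfsg.Spor.CoxPresented L37W.Gen L37W.edges L37W.extra

end Cfsg.Agent.Helper28
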