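import Cfsg.Agent.Lib.Helper28.TCSeed

/-!
Distinctness of orbits with different labels.
-/

set_option autoImplicit false

namespace Cfsg.Agent.Helper28

section OrbNe

variable {α Ω : Type} (rels : Set (FreeGroup α)) (S : Set (FreeGroup α))
  (fwd inv : α → Ω → Ω) (o : Ω)
  (hfi : ∀ x p, inv x (fwd x p) = p) (hif : ∀ x p, fwd x (inv x p) = p)
  (plet : Ω → α × Bool) (idx : Ω → Nat)
  (htree : ∀ p, p ≠ o → idx (parent fwd inv plet p) < idx p)
  (hrel : ∀ r ∈ rels, FreeGroup.lift (permOf fwd inv hfi hif) r = 1)
  (hS : ∀ s ∈ S, FreeGroup.lift (permOf fwd inv hfi hif) s o = o)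
  (lab : Ω → Nat)
  (hlab : ∀ s ∈ S, ∀ b, lab (FreeGroup.lift (permOf fwd inv hfi hif) s b) = lab b)

include htree hrel hS hlab in
theorem orbit_ne_of_lab (root root' : Ω) (hne : lab root ≠ lab root') :
    MulAction.orbit (subH rels S) (psi rels S (repW fwd inv o plet idx) root) ≠
      MulAction.orbit (subH rels S) (psi rels S (repW fwd inv o plet idx) root') := by
  intro heq
  have hmem : psi rels S (repW fwd inv o plet idx) root' ∈
      MulAction.orbit (subH rels S) (psi rels S (repW fwd inv o plet idx) root) := by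
    rw [heq]
    exact MulAction.mem_orbit_self _
  obtain ⟨⟨h, hh⟩, he⟩ := hmem
  have he' : h • psi rels S (repW fwd inv o plet idx) root =
      psi rels S (repW fwd inv o plet idx) root' := he
  have h1 := congrArg (theta rels S fwd inv o hfi hif hrel hS) he'
  rw [theta_smul, theta_psi rels S fwd inv o hfi hif hrel hS (repW fwd inv o plet idx)
      (act_repW fwd inv o hfi hif plet idx htree),
    theta_psi rels S fwd inv o hfi hif hrel hS (repW fwd inv o plet idx)
      (act_repW fwd inv o hfi hif plet idx htree)] at h1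
  have h2 := lab_phi rels S fwd inv hfi hif hrel lab hlab h hh root
  rw [h1] at h2
  exact hne h2.symm

end OrbNe

end Cfsg.Agent.Helper28
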