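import Cfsg.Agent.Lib.Helper28.TCSeed

/-!
Table-driven seeds: the seed entries are numbered by a table `sd` (0: not a seed, `k+1`: seed
number `k`) and listed in `spt`; the check `chkSeedTab` ties the two together.
-/

set_option autoImplicit false

namespace Cfsg.Agent.Helper28

section Nth

variable {β : Type}

/-- `k`-th element of a list, written with recursors -/
noncomputable def nthO (l : List β) : Nat → Option β :=
  List.rec (motive := fun _ => Nat → Option β) (fun _ => none)
    (fun a _ ih k => Nat.rec (motive := fun _ => Option β) (some a) (fun k' _ => ih k') k) l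

theorem nthO_nil (k : Nat) : nthO ([] : List β) k = none := rfl
theorem nthO_cons_zero (a : β) (l : List β) : nthO (a :: l) 0 = some a := rfl
theorem nthO_cons_succ (a : β) (l : List β) (k : Nat) : nthO (a :: l) (k + 1) = nthO l k := rfl

theorem nthO_mem (l : List β) (k : Nat) (b : β) (h : nthO l k = some b) : b ∈ l := by
  induction l generalizing k with
  | nil => rw [nthO_nil] at h; cases h
  | cons a l ih =>
    cases k with
    | zero =>
      rw [nthO_cons_zero] at h
      cases h
      exact List.mem_cons_self
    | succ k =>
      rw [nthO_cons_succ] at h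
      exact List.mem_cons_of_mem _ (ih k h)

theorem all_nil {Q : β → Prop} : ∀ e ∈ ([] : List β), Q e := fun _ h => absurd h List.not_mem_nil

theorem all_cons {Q : β → Prop} {a : β} {l : List β} (h : Q a) (ht : ∀ e ∈ l, Q e) :
    ∀ e ∈ a :: l, Q e := by
  intro e he
  rcases List.mem_cons.mp he with rfl | he
  · exact h
  · exact ht e he

end Nth

section SeedTab

variable {α Ω : Type} (rels : Set (FreeGroup α)) (S : Set (FreeGroup α))
  (fwd inv : α → Ω → Ω) (o : Ω)
  (lvl : α → Ω → Nat) (plet : Ω → α × Bool) (idx : Ω → Nat)
  (beq : Ω → Ω → Bool) (leq : α × Bool → α × Bool → Bool)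
  (hbeq : ∀ p q, beq p q = true → p = q) (hleq : ∀ l m, leq l m = true → l = m)

/-- seed predicate from the numbering table -/
noncomputable def isSeedT (sd : α → Ω → Nat) (x : α) (p : Ω) : Bool :=
  Nat.rec (motive := fun _ => Bool) false (fun _ _ => true) (sd x p)

/-- seed-table check for one entry -/
noncomputable def chkSeedTab (sd : α → Ω → Nat) (spt : List (α × Ω)) (L : Nat) (x : α) (p : Ω) : Bool :=
  Nat.rec (motive := fun _ => Bool) true
    (fun k _ => Option.rec (motive := fun _ => Bool) false
      (fun e => andB (leq (e.1, true) (x, true)) (andB (beq e.2 p) (Nat.ble L (lvl x p))))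
      (nthO spt k)) (sd x p)

include hbeq hleq in
theorem hseed_of_tab (sd : α → Ω → Nat) (spt : List (α × Ω)) (L : Nat)
    (hchk : ∀ x p, chkSeedTab lvl beq leq sd spt L x p = true)
    (hall : ∀ e ∈ spt, (∀ y q, lvl y q < L → EntryOK rels S fwd inv o plet idx y q) →
        EntryOK rels S fwd inv o plet idx e.1 e.2) :
    ∀ x p, isSeedT sd x p = true →
      (∀ y q, lvl y q < lvl x p → EntryOK rels S fwd inv o plet idx y q) →
      EntryOK rels S fwd inv o plet idx x p := by
  intro x p hs IH
  have h := hchk x p
  unfold chkSeedTab at h
  unfold isSeedT at hs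
  cases hk : sd x p with
  | zero =>
    rw [hk] at hs
    exact absurd hs (by simp)
  | succ k =>
    rw [hk] at h
    have h' : Option.rec (motive := fun _ => Bool) false
      (fun e => andB (leq (e.1, true) (x, true)) (andB (beq e.2 p) (Nat.ble L (lvl x p))))
      (nthO spt k) = true := h
    cases he : nthO spt k with
    | none =>
      rw [he] at h'
      exact absurd h' (by simp)
    | some e =>
      rw [he] at h'
      have h'' : andB (leq (e.1, true) (x, true)) (andB (beq e.2 p) (Nat.ble L (lvl x p))) = true := h'
      obtain ⟨h1, h23⟩ := andB_true h''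
      obtain ⟨h2, h3⟩ := andB_true h23
      have hx : e.1 = x := (Prod.mk.inj (hleq _ _ h1)).1
      have hp : e.2 = p := hbeq _ _ h2
      have hL : L ≤ lvl x p := Nat.le_of_ble_eq_true h3
      have hmem := nthO_mem spt k e he
      have := hall e hmem (fun y q hlt => IH y q (Nat.lt_of_lt_of_le hlt hL))
      rw [hx, hp] at this
      exact this

end SeedTab

end Cfsg.Agent.Helper28
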