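import Cfsg.Agent.Lib.Helper81.SLPermChar

/-!
# SLN project (S2332, helper62 server): piece EX, `exists_irr_min`

`SL_n(q)`, `n ≥ 3`, has an irreducible complex representation of degree `(q^n - q)/(q - 1)`:
the non-trivial constituent of the permutation character on the points of `PG(n-1, q)`.
We re-run helper81's decomposition of the permutation character on the non-zero vectors,
this time exporting the degrees of the constituents.
-/

set_option autoImplicit false
set_option linter.style.haveILetI false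
set_option linter.unusedSectionVars false

namespace Cfsg.Agent.Helper28.SLN
open Matrix Representation Cfsg Cfsg.Agent.Helper81
open scoped ComplexConjugate
universe u v w

section decomp
variable {G : Type u} [Group G] [Fintype G]

/-- `Helper81.exists_perm_char_decomp`, exporting the degrees as well (same proof). -/
theorem h28_exists_perm_char_decomp (P₀ P : Subgroup G) (hle : P₀ ≤ P) {A : Type v} [CommGroup A]
    [Finite A] (lam : P →* A) (hlam : Function.Surjective lam)
    (hker : ∀ x : P, lam x = 1 ↔ (x : G) ∈ P₀) (hP : P ≠ ⊤)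
    (hrank : classInner (indFun P₀ (1 : P₀ → ℂ)) (indFun P₀ (1 : P₀ → ℂ)) =
      ((Nat.card A + 1 : ℕ) : ℂ)) :
    ∃ χ : AddChar (Additive A) ℂ → (G → ℂ), (∀ ψ, IsIrrCharacter G (χ ψ)) ∧
      Function.Injective χ ∧ indFun P₀ (1 : P₀ → ℂ) = 1 + ∑ ψ, χ ψ ∧
      ∀ ψ, χ ψ 1 = (P.index : ℂ) - (if ψ = 0 then 1 else 0) := by
  classical
  haveI : Fintype A := Fintype.ofFinite A
  haveI : Fintype P := Fintype.ofFinite P
  set N' : Subgroup P := P₀.subgroupOf P with hN'def
  have hN'ker : N' = lam.ker := by
    ext x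
    rw [hN'def, Subgroup.mem_subgroupOf, MonoidHom.mem_ker, hker]
  have hN' : N'.Normal := by rw [hN'ker]; infer_instance
  have hcardA : Nat.card A = N'.index := by
    rw [hN'ker, Subgroup.index_ker, MonoidHom.range_eq_top.mpr hlam]
    exact (Nat.card_congr Subgroup.topEquiv.toEquiv).symm
  have h1 : indFun N' (1 : N' → ℂ) = ∑ ψ : AddChar (Additive A) ℂ, linChar lam ψ := by
    funext x
    rw [indFun_one_fun N' hN', Finset.sum_apply, sum_linChar, hcardA]
    by_cases hx : x ∈ N'
    · rw [if_pos hx, if_pos]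
      rw [hN'ker, MonoidHom.mem_ker] at hx
      exact hx
    · rw [if_neg hx, if_neg]
      intro h
      apply hx
      rw [hN'ker, MonoidHom.mem_ker]
      exact h
  have h2 : indFun P₀ (1 : P₀ → ℂ) =
      ∑ ψ : AddChar (Additive A) ℂ, indFun P (linChar lam ψ) := by
    rw [← indFun_trans P₀ P hle (1 : P₀ → ℂ)]
    show indFun P (indFun N' (1 : N' → ℂ)) = _
    rw [h1, indFun_sum]
  set pi : AddChar (Additive A) ℂ → (G → ℂ) := fun ψ => indFun P (linChar lam ψ) with hpidef
  have hpichar : ∀ ψ, IsCharacter G (pi ψ) := fun ψ =>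
    isCharacter_indFun P (isCharacter_of_mul (linChar_one lam ψ) (linChar_mul lam ψ))
  have hpi1 : ∀ ψ, pi ψ 1 = (P.index : ℂ) := by
    intro ψ
    show indFun P (linChar lam ψ) 1 = _
    rw [indFun_one, linChar_one, mul_one]
  have hidx0 : (P.index : ℂ) ≠ 0 := by
    have : P.index ≠ 0 := Subgroup.index_ne_zero_of_finite
    exact_mod_cast this
  have hone : IsIrrCharacter G (1 : G → ℂ) := isIrrCharacter_one
  have hlin0 : linChar lam (0 : AddChar (Additive A) ℂ) = fun _ => 1 := by
    funext x
    simp [linChar_apply]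
  have h0 : classInner (pi 0) (1 : G → ℂ) = 1 := by
    show classInner (indFun P (linChar lam 0)) (1 : G → ℂ) = 1
    rw [frobenius_reciprocity P _
      (isClassFunction_of_isCharacter (IsIrrCharacter.isCharacter hone)), hlin0]
    have := irr_orthonormal (isIrrCharacter_one (G := P)) (isIrrCharacter_one (G := P))
    rw [if_pos rfl] at this
    exact this
  obtain ⟨α', hα', hα'eq⟩ := exists_add_of_classInner_ne_zero (hpichar 0) hone
    (by rw [h0]; exact one_ne_zero)
  have hα'0 : α' ≠ 0 := by
    intro h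
    rw [h, add_zero] at hα'eq
    have h3 := hpi1 0
    rw [hα'eq] at h3
    simp only [Pi.one_apply] at h3
    have h4 : P.index = 1 := by exact_mod_cast h3.symm
    exact hP (Subgroup.index_eq_one.mp h4)
  set χ : AddChar (Additive A) ℂ → (G → ℂ) :=
    fun ψ => pi ψ - (if ψ = 0 then (1 : G → ℂ) else 0) with hχdef
  have hχ0 : χ 0 = α' := by
    show pi 0 - (if (0 : AddChar (Additive A) ℂ) = 0 then (1 : G → ℂ) else 0) = α'
    rw [if_pos rfl, hα'eq, add_sub_cancel_left]
  have hχne : ∀ ψ, ψ ≠ 0 → χ ψ = pi ψ := by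
    intro ψ hψ
    show pi ψ - (if ψ = 0 then (1 : G → ℂ) else 0) = pi ψ
    rw [if_neg hψ, sub_zero]
  have hsum : indFun P₀ (1 : P₀ → ℂ) = 1 + ∑ ψ, χ ψ := by
    rw [h2]
    simp only [hχdef, Finset.sum_sub_distrib, Finset.sum_ite_eq', Finset.mem_univ, if_true]
    abel
  let f : Option (AddChar (Additive A) ℂ) → (G → ℂ) := fun o =>
    match o with
    | none => 1
    | some ψ => χ ψ
  have hfsum : ∑ o, f o = indFun P₀ (1 : P₀ → ℂ) := by
    rw [Fintype.sum_option, hsum]
  have hfchar : ∀ o, IsCharacter G (f o) := by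
    intro o
    cases o with
    | none => exact IsIrrCharacter.isCharacter hone
    | some ψ =>
      show IsCharacter G (χ ψ)
      by_cases hψ : ψ = 0
      · rw [hψ, hχ0]; exact hα'
      · rw [hχne ψ hψ]; exact hpichar ψ
  have hf0 : ∀ o, f o ≠ 0 := by
    intro o
    cases o with
    | none =>
      intro h
      have := congrFun h 1
      simp [f] at this
    | some ψ =>
      show χ ψ ≠ 0
      by_cases hψ : ψ = 0
      · rw [hψ, hχ0]; exact hα'0
      · rw [hχne ψ hψ]
        intro h
        have h5 := hpi1 ψ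
        rw [h] at h5
        exact hidx0 h5.symm
  have hcard : Fintype.card (Option (AddChar (Additive A) ℂ)) = Nat.card A + 1 := by
    rw [Fintype.card_option, AddChar.card_eq, Fintype.card_additive, Nat.card_eq_fintype_card]
  obtain ⟨hirr, hinj⟩ := irr_of_norm_sum_eq_card f hfchar hf0 (by rw [hfsum, hrank, hcard])
  refine ⟨χ, fun ψ => hirr (some ψ), ?_, hsum, ?_⟩
  · intro ψ ψ' h
    have := hinj (a₁ := some ψ) (a₂ := some ψ') h
    exact Option.some_injective _ this
  · intro ψ
    show (pi ψ - (if ψ = 0 then (1 : G → ℂ) else 0)) 1 = _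
    rw [Pi.sub_apply, hpi1 ψ]
    by_cases hψ : ψ = 0
    · rw [if_pos hψ, if_pos hψ]; rfl
    · rw [if_neg hψ, if_neg hψ]; rfl


end decomp

section sl
variable {F : Type*} [Field F] [Fintype F] [DecidableEq F]

theorem h28_card_nz (n : ℕ) :
    Nat.card {v : Fin n → F // v ≠ 0 ∧
      (1 : Matrix.SpecialLinearGroup (Fin n) F).1 *ᵥ v = v} = Fintype.card F ^ n - 1 := by
  classical
  have e : {v : Fin n → F // v ≠ 0 ∧
      (1 : Matrix.SpecialLinearGroup (Fin n) F).1 *ᵥ v = v} ≃ {v : Fin n → F // ¬ (v = 0)} :=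
    Equiv.subtypeEquivRight (fun v => by simp)
  rw [Nat.card_congr e, Nat.card_eq_fintype_card, Fintype.card_subtype_compl,
    Fintype.card_subtype_eq, Fintype.card_fun, Fintype.card_fin]

/-- a representation on `Fin k → ℂ` can be moved along `k = k'` -/
theorem h28_irr_cast {G : Type*} [Group G] {k k' : ℕ} (h : k = k')
    (ρ : Representation ℂ G (Fin k → ℂ)) (hρ : ρ.IsIrreducible) :
    ∃ ρ' : Representation ℂ G (Fin k' → ℂ), ρ'.IsIrreducible := by
  subst h
  exact ⟨ρ, hρ⟩

/-- piece EX : existence of an irreducible representation of degree `(q^n - q)/(q - 1)`. -/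
theorem exists_irr_min (n : ℕ) (hn : 3 ≤ n) :
    ∃ ρ : Representation ℂ (SpecialLinearGroup (Fin n) F)
      (Fin ((Fintype.card F ^ n - Fintype.card F) / (Fintype.card F - 1)) → ℂ),
      ρ.IsIrreducible := by
  classical
  have hq2 : 2 ≤ Fintype.card F := Fintype.one_lt_card
  let i0 : Fin n := ⟨0, by omega⟩
  let i1 : Fin n := ⟨1, by omega⟩
  let i2 : Fin n := ⟨2, by omega⟩
  have h01 : i0 ≠ i1 := by
    intro h; have := congrArg Fin.val h; simp [i0, i1] at this
  have h02 : i0 ≠ i2 := by
    intro h; have := congrArg Fin.val h; simp [i0, i2] at this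
  have h12 : i1 ≠ i2 := by
    intro h; have := congrArg Fin.val h; simp [i1, i2] at this
  haveI : Fintype (NZVec F (Fin n)) := Fintype.ofFinite _
  haveI := nz_pretransitive (F := F) i0 i1 h01
  have hrank := classInner_indFun_stabilizer_one (G := Matrix.SpecialLinearGroup (Fin n) F)
    (nzSingle (F := F) i0)
  rw [card_orbits_stabilizer i0 i1 i2 h01 h02 h12] at hrank
  have hcard : Nat.card F = Nat.card Fˣ + 1 := by
    rw [Nat.card_eq_fintype_card, Nat.card_eq_fintype_card, Fintype.card_units]
    omega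
  rw [hcard] at hrank
  obtain ⟨χ, hirr, hinj, hsum, hdeg⟩ := h28_exists_perm_char_decomp
    (MulAction.stabilizer (Matrix.SpecialLinearGroup (Fin n) F) (nzSingle (F := F) i0))
    (lineStab i0) (stabilizer_le_lineStab i0) (lineChar i0) (lineChar_surjective i0 i1 h01)
    (lineChar_eq_one_iff i0) (lineStab_ne_top i0 i1 h01) hrank
  set d : ℕ := (lineStab (F := F) i0).index with hd
  -- count degrees
  have h1 : ((Fintype.card F ^ n - 1 : ℕ) : ℂ) = 1 + ∑ ψ, χ ψ 1 := by
    rw [← h28_card_nz (F := F) n, nat_card_fixed_eq, Nat.card_eq_fintype_card,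
      ← indFun_stabilizer_one (nzSingle (F := F) i0) 1, hsum]
    simp
  have hnum : Fintype.card (AddChar (Additive Fˣ) ℂ) = Fintype.card F - 1 := by
    rw [AddChar.card_eq, Fintype.card_additive, Fintype.card_units]
  have h2 : ∑ ψ : AddChar (Additive Fˣ) ℂ, χ ψ 1 = ((Fintype.card F - 1 : ℕ) : ℂ) * (d : ℂ) - 1 := by
    simp only [hdeg, Finset.sum_sub_distrib, Finset.sum_const, Finset.card_univ,
      Finset.sum_ite_eq', Finset.mem_univ, if_true, nsmul_eq_mul]
    rw [hnum]
  have h3 : Fintype.card F ^ n - 1 = (Fintype.card F - 1) * d := by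
    have : ((Fintype.card F ^ n - 1 : ℕ) : ℂ) = (((Fintype.card F - 1) * d : ℕ) : ℂ) := by
      rw [h1, h2]; push_cast; ring
    exact_mod_cast this
  -- the constituent of degree `d - 1`
  obtain ⟨k, ρ, hρ, hchar⟩ := hirr 0
  have hk : k = (Fintype.card F ^ n - Fintype.card F) / (Fintype.card F - 1) := by
    have h4 : (k : ℂ) = (d : ℂ) - 1 := by
      have := hdeg 0
      rw [if_pos rfl, ← hchar, Representation.char_one] at this
      simpa using this
    have hqn : Fintype.card F ≤ Fintype.card F ^ n := by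
      calc Fintype.card F = Fintype.card F ^ 1 := (pow_one _).symm
        _ ≤ Fintype.card F ^ n := Nat.pow_le_pow_right (by omega) (by omega)
    have hdpos : 1 ≤ d := by
      rcases Nat.eq_zero_or_pos d with h | h
      · rw [h, mul_zero] at h3; omega
      · exact h
    have h5 : k + 1 = d := by
      have : ((k + 1 : ℕ) : ℂ) = (d : ℂ) := by push_cast; rw [h4]; ring
      exact_mod_cast this
    have h6 : Fintype.card F ^ n - Fintype.card F = (Fintype.card F - 1) * k := by
      have : (Fintype.card F - 1) * d = (Fintype.card F - 1) * k + (Fintype.card F - 1) := by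
        rw [← h5]; ring
      omega
    rw [h6, Nat.mul_div_cancel_left _ (by omega)]
  exact h28_irr_cast hk ρ hρ

end sl

end Cfsg.Agent.Helper28.SLN
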