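import Mathlib

/-!
Verified coset tables: a finite permutation model of a presented group together with
coset representative certificates gives the index of a subgroup generated by words.
-/

set_option autoImplicit false

namespace Cfsg.Agent.Helper28

abbrev Word (α : Type) := List (α × Bool)

section Act

variable {α Ω : Type}

/-- apply a letter -/
noncomputable def stepL (fwd inv : α → Ω → Ω) (l : α × Bool) (p : Ω) : Ω :=
  Prod.rec (motive := fun _ => Ω) (fun x b => Bool.rec (motive := fun _ => Ω) (inv x p) (fwd x p) b) l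

theorem stepL_true (fwd inv : α → Ω → Ω) (x : α) (p : Ω) : stepL fwd inv (x, true) p = fwd x p := rfl
theorem stepL_false (fwd inv : α → Ω → Ω) (x : α) (p : Ω) : stepL fwd inv (x, false) p = inv x p := rfl

/-- apply a word (last letter first) -/
noncomputable def act (fwd inv : α → Ω → Ω) (w : Word α) (p : Ω) : Ω :=
  List.rec (motive := fun _ => Ω) p (fun l _ ih => stepL fwd inv l ih) w

theorem act_nil (fwd inv : α → Ω → Ω) (p : Ω) : act fwd inv [] p = p := rfl
theorem act_cons (fwd inv : α → Ω → Ω) (l : α × Bool) (w : Word α) (p : Ω) :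
    act fwd inv (l :: w) p = stepL fwd inv l (act fwd inv w p) := rfl

theorem act_append (fwd inv : α → Ω → Ω) (u v : Word α) (p : Ω) :
    act fwd inv (u ++ v) p = act fwd inv u (act fwd inv v p) := by
  induction u with
  | nil => rfl
  | cons l u ih => simp [act_cons, ih]

/-- apply a list of functions (last first) -/
noncomputable def actF (w : List (Ω → Ω)) (p : Ω) : Ω :=
  List.rec (motive := fun _ => Ω) p (fun f _ ih => f ih) w

theorem actF_map (fwd inv : α → Ω → Ω) (w : Word α) (p : Ω) :
    actF (w.map (stepL fwd inv)) p = act fwd inv w p := by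
  induction w with
  | nil => rfl
  | cons l w ih =>
    show stepL fwd inv l (actF (w.map (stepL fwd inv)) p) = _
    rw [ih]; rfl

end Act

section Perm

variable {α Ω : Type}

/-- the permutation attached to a generator -/
def permOf (fwd inv : α → Ω → Ω) (hfi : ∀ x p, inv x (fwd x p) = p)
    (hif : ∀ x p, fwd x (inv x p) = p) (x : α) : Equiv.Perm Ω :=
  ⟨fwd x, inv x, hfi x, hif x⟩

theorem lift_mk_apply (fwd inv : α → Ω → Ω) (hfi : ∀ x p, inv x (fwd x p) = p)
    (hif : ∀ x p, fwd x (inv x p) = p) (w : Word α) (p : Ω) :
    FreeGroup.lift (permOf fwd inv hfi hif) (FreeGroup.mk w) p = act fwd inv w p := by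
  induction w generalizing p with
  | nil => simp [FreeGroup.lift_mk, act_nil]
  | cons l w ih =>
    obtain ⟨x, b⟩ := l
    rw [FreeGroup.lift_mk] at ih ⊢
    rw [List.map_cons, List.prod_cons, Equiv.Perm.mul_apply, ih, act_cons]
    cases b
    · simp only [cond_false, stepL_false]
      rfl
    · simp only [cond_true, stepL_true]
      rfl

end Perm


section Main

variable {α Ω : Type} (rels : Set (FreeGroup α)) (S : Set (FreeGroup α))
  (fwd inv : α → Ω → Ω) (o : Ω)
  (hfi : ∀ x p, inv x (fwd x p) = p) (hif : ∀ x p, fwd x (inv x p) = p)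

/-- the subgroup generated by the images of the words in `S` -/
abbrev subH : Subgroup (PresentedGroup rels) :=
  (Subgroup.closure S).map (PresentedGroup.mk rels)

variable (hrel : ∀ r ∈ rels, FreeGroup.lift (permOf fwd inv hfi hif) r = 1)

/-- the permutation representation of the presented group -/
def phi : PresentedGroup rels →* Equiv.Perm Ω := PresentedGroup.toGroup hrel

theorem phi_mk (w : FreeGroup α) :
    phi rels fwd inv hfi hif hrel (PresentedGroup.mk rels w) =
      FreeGroup.lift (permOf fwd inv hfi hif) w := rfl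

theorem phi_of (x : α) (p : Ω) :
    phi rels fwd inv hfi hif hrel (PresentedGroup.of x) p = fwd x p := by
  have : phi rels fwd inv hfi hif hrel (PresentedGroup.of x) = permOf fwd inv hfi hif x :=
    PresentedGroup.toGroup.of hrel
  rw [this]; rfl

theorem phi_of_inv (x : α) (p : Ω) :
    (phi rels fwd inv hfi hif hrel (PresentedGroup.of x))⁻¹ p = inv x p := by
  have : phi rels fwd inv hfi hif hrel (PresentedGroup.of x) = permOf fwd inv hfi hif x :=
    PresentedGroup.toGroup.of hrel
  rw [this]; rfl

variable (hS : ∀ s ∈ S, FreeGroup.lift (permOf fwd inv hfi hif) s o = o)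

include hS in
theorem phi_fix (h : PresentedGroup rels) (hh : h ∈ subH rels S) :
    phi rels fwd inv hfi hif hrel h o = o := by
  obtain ⟨w, hw, rfl⟩ := hh
  rw [phi_mk]
  induction hw using Subgroup.closure_induction with
  | mem s hs => exact hS s hs
  | one => simp
  | mul a b _ _ ha hb => rw [map_mul, Equiv.Perm.mul_apply, hb, ha]
  | inv a _ ha =>
    rw [map_inv]
    exact (Equiv.Perm.inv_eq_iff_eq).mpr ha.symm

variable (rep : Ω → Word α) (hrep0 : rep o = [])
  (hrep : ∀ p, act fwd inv (rep p) o = p)
  (hE : ∀ x p, (PresentedGroup.mk rels (FreeGroup.mk (rep (fwd x p))))⁻¹ *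
      (PresentedGroup.of x * PresentedGroup.mk rels (FreeGroup.mk (rep p))) ∈ subH rels S)

/-- coset of the representative of a point -/
def psi (p : Ω) : PresentedGroup rels ⧸ subH rels S :=
  ((PresentedGroup.mk rels (FreeGroup.mk (rep p)) : PresentedGroup rels) :
    PresentedGroup rels ⧸ subH rels S)

include hE in
theorem psi_fwd (x : α) (p : Ω) :
    psi rels S rep (fwd x p) = (PresentedGroup.of x : PresentedGroup rels) • psi rels S rep p := by
  unfold psi
  rw [MulAction.Quotient.smul_mk, QuotientGroup.eq]
  exact hE x p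

include hE hif in
theorem psi_inv (x : α) (p : Ω) :
    psi rels S rep (inv x p) =
      (PresentedGroup.of x : PresentedGroup rels)⁻¹ • psi rels S rep p := by
  have h := psi_fwd rels S fwd rep hE x (inv x p)
  rw [hif] at h
  rw [h, inv_smul_smul]

include hE in
theorem psi_equivariant (g : PresentedGroup rels) (p : Ω) :
    psi rels S rep (phi rels fwd inv hfi hif hrel g p) = g • psi rels S rep p := by
  obtain ⟨w, rfl⟩ := PresentedGroup.mk_surjective rels g
  induction w using FreeGroup.induction_on generalizing p with
  | C1 => simp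
  | of x =>
    have : PresentedGroup.mk rels (FreeGroup.of x) = PresentedGroup.of x := rfl
    rw [this, phi_of]
    exact psi_fwd rels S fwd rep hE x p
  | inv_of x _ =>
    have : PresentedGroup.mk rels (FreeGroup.of x) = PresentedGroup.of x := rfl
    rw [map_inv, map_inv, this, phi_of_inv]
    exact psi_inv rels S fwd inv hif rep hE x p
  | mul a b ha hb =>
    rw [map_mul, map_mul, Equiv.Perm.mul_apply, ha, hb, mul_smul]

include hS in
/-- the orbit map from cosets to points -/
def theta : PresentedGroup rels ⧸ subH rels S → Ω :=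
  Quotient.lift (fun g => phi rels fwd inv hfi hif hrel g o) (by
    intro a b hab
    have h : a⁻¹ * b ∈ subH rels S := QuotientGroup.leftRel_apply.mp hab
    have h2 := phi_fix rels S fwd inv o hfi hif hrel hS _ h
    show phi rels fwd inv hfi hif hrel a o = phi rels fwd inv hfi hif hrel b o
    have : b = a * (a⁻¹ * b) := by group
    rw [this, map_mul, Equiv.Perm.mul_apply, h2])

theorem theta_mk (g : PresentedGroup rels) :
    theta rels S fwd inv o hfi hif hrel hS (g : PresentedGroup rels ⧸ subH rels S) =
      phi rels fwd inv hfi hif hrel g o := rfl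

theorem theta_smul (g : PresentedGroup rels) (q : PresentedGroup rels ⧸ subH rels S) :
    theta rels S fwd inv o hfi hif hrel hS (g • q) =
      phi rels fwd inv hfi hif hrel g (theta rels S fwd inv o hfi hif hrel hS q) := by
  induction q using QuotientGroup.induction_on with
  | H a =>
    rw [MulAction.Quotient.smul_mk, theta_mk, theta_mk, smul_eq_mul, map_mul, Equiv.Perm.mul_apply]

include hrep0 hE in
theorem psi_theta (q : PresentedGroup rels ⧸ subH rels S) :
    psi rels S rep (theta rels S fwd inv o hfi hif hrel hS q) = q := by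
  induction q using QuotientGroup.induction_on with
  | H a =>
    rw [theta_mk, psi_equivariant rels S fwd inv hfi hif hrel rep hE]
    unfold psi
    rw [hrep0, MulAction.Quotient.smul_mk]
    have : (FreeGroup.mk ([] : Word α)) = 1 := rfl
    rw [this, map_one, smul_eq_mul, mul_one]

include hrep in
theorem theta_psi (p : Ω) :
    theta rels S fwd inv o hfi hif hrel hS (psi rels S rep p) = p := by
  unfold psi
  rw [theta_mk, phi_mk, lift_mk_apply, hrep]

/-- cosets of `H` correspond to points -/
def cosetEquiv : (PresentedGroup rels ⧸ subH rels S) ≃ Ω where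
  toFun := theta rels S fwd inv o hfi hif hrel hS
  invFun := psi rels S rep
  left_inv := psi_theta rels S fwd inv o hfi hif hrel hS rep hrep0 hE
  right_inv := theta_psi rels S fwd inv o hfi hif hrel hS rep hrep

include hrel hS hrep0 hrep hE in
theorem index_eq [Fintype Ω] : (subH rels S).index = Fintype.card Ω := by
  rw [Subgroup.index, Nat.card_congr (cosetEquiv rels S fwd inv o hfi hif hrel hS rep hrep0 hrep hE),
    Nat.card_eq_fintype_card]

end Main


section Orbit

variable {α Ω : Type} (rels : Set (FreeGroup α)) (S : Set (FreeGroup α))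
  (fwd inv : α → Ω → Ω) (o : Ω)
  (hfi : ∀ x p, inv x (fwd x p) = p) (hif : ∀ x p, fwd x (inv x p) = p)
  (hrel : ∀ r ∈ rels, FreeGroup.lift (permOf fwd inv hfi hif) r = 1)
  (hS : ∀ s ∈ S, FreeGroup.lift (permOf fwd inv hfi hif) s o = o)
  (rep : Ω → Word α) (hrep0 : rep o = [])
  (hrep : ∀ p, act fwd inv (rep p) o = p)
  (hE : ∀ x p, (PresentedGroup.mk rels (FreeGroup.mk (rep (fwd x p))))⁻¹ *
      (PresentedGroup.of x * PresentedGroup.mk rels (FreeGroup.mk (rep p))) ∈ subH rels S)

include hS hrep0 hrep hE in
/-- the `H`-orbit of a coset corresponds to the orbit of its point under the image of `H` -/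
theorem orbit_ncard (p : Ω) (B : Set Ω)
    (hB1 : ∀ h ∈ subH rels S, phi rels fwd inv hfi hif hrel h p ∈ B)
    (hB2 : ∀ b ∈ B, ∃ h ∈ subH rels S, phi rels fwd inv hfi hif hrel h p = b) :
    (MulAction.orbit (subH rels S) (psi rels S rep p)).ncard = B.ncard := by
  have himg : theta rels S fwd inv o hfi hif hrel hS ''
      (MulAction.orbit (subH rels S) (psi rels S rep p)) = B := by
    ext b
    constructor
    · rintro ⟨q, ⟨⟨h, hh⟩, rfl⟩, rfl⟩
      show theta rels S fwd inv o hfi hif hrel hS (h • psi rels S rep p) ∈ B
      rw [theta_smul, theta_psi rels S fwd inv o hfi hif hrel hS rep hrep]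
      exact hB1 h hh
    · intro hb
      obtain ⟨h, hh, rfl⟩ := hB2 b hb
      refine ⟨h • psi rels S rep p, ⟨⟨h, hh⟩, rfl⟩, ?_⟩
      rw [theta_smul, theta_psi rels S fwd inv o hfi hif hrel hS rep hrep]
  rw [← himg]
  symm
  apply Set.ncard_image_of_injective
  exact (cosetEquiv rels S fwd inv o hfi hif hrel hS rep hrep0 hrep hE).injective

end Orbit

end Cfsg.Agent.Helper28
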