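import Cfsg.Agent.Lib.Helper28.TC

/-!
Boolean checkers (evaluated by the kernel) and their soundness.
-/

set_option autoImplicit false

namespace Cfsg.Agent.Helper28

section Basic

variable {β : Type}

/-- `all` over a list, written with the recursor -/
noncomputable def allL (f : β → Bool) (l : List β) : Bool :=
  List.rec (motive := fun _ => Bool) true (fun a _ ih => Bool.rec false ih (f a)) l

theorem allL_nil (f : β → Bool) : allL f [] = true := rfl
theorem allL_cons (f : β → Bool) (a : β) (l : List β) :
    allL f (a :: l) = Bool.rec false (allL f l) (f a) := rfl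

theorem allL_sound (f : β → Bool) (l : List β) (h : allL f l = true) : ∀ a ∈ l, f a = true := by
  induction l with
  | nil => intro a ha; cases ha
  | cons b l ih =>
    rw [allL_cons] at h
    intro a ha
    cases hb : f b with
    | false => rw [hb] at h; cases h
    | true =>
      rw [hb] at h
      rcases List.mem_cons.mp ha with rfl | ha
      · exact hb
      · exact ih h a ha

/-- count over a list, written with the recursor -/
noncomputable def countL (f : β → Bool) (l : List β) : Nat :=
  List.rec (motive := fun _ => Nat) 0 (fun a _ ih => Bool.rec ih (Nat.succ ih) (f a)) l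

theorem countL_eq (f : β → Bool) (l : List β) : countL f l = l.countP f := by
  induction l with
  | nil => rfl
  | cons b l ih =>
    show Bool.rec (motive := fun _ => Nat) (countL f l) (Nat.succ (countL f l)) (f b) = _
    rw [List.countP_cons, ih]
    cases f b <;> simp

/-- conjunction with the recursor -/
noncomputable def andB (a b : Bool) : Bool := Bool.rec false b a

theorem andB_true {a b : Bool} (h : andB a b = true) : a = true ∧ b = true := by
  cases a <;> cases b <;> simp_all [andB]

/-- disjunction with the recursor -/
noncomputable def orB (a b : Bool) : Bool := Bool.rec b true a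

theorem orB_true {a b : Bool} (h : orB a b = true) : a = true ∨ b = true := by
  cases a <;> cases b <;> simp_all [orB]

end Basic

section Checks

variable {α Ω : Type}

/-- a list of functions fixes all points -/
noncomputable def chkWordF (all : (Ω → Bool) → Bool) (beq : Ω → Ω → Bool) (w : List (Ω → Ω)) : Bool :=
  all (fun p => beq (actF w p) p)

theorem chkWordF_sound (all : (Ω → Bool) → Bool) (beq : Ω → Ω → Bool)
    (hall : ∀ f, all f = true → ∀ p, f p = true)
    (hbeq : ∀ p q, beq p q = true → p = q)
    (fwd inv : α → Ω → Ω) (w : Word α) (wF : List (Ω → Ω))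
    (hw : wF = w.map (stepL fwd inv)) (h : chkWordF all beq wF = true) :
    ∀ p, act fwd inv w p = p := by
  intro p
  have := hbeq _ _ (hall _ h p)
  rw [hw, actF_map] at this
  exact this

/-- two functions are mutually inverse -/
noncomputable def chkInv (all : (Ω → Bool) → Bool) (beq : Ω → Ω → Bool) (f g : Ω → Ω) : Bool :=
  all (fun p => andB (beq (g (f p)) p) (beq (f (g p)) p))

theorem chkInv_sound (all : (Ω → Bool) → Bool) (beq : Ω → Ω → Bool)
    (hall : ∀ f, all f = true → ∀ p, f p = true)
    (hbeq : ∀ p q, beq p q = true → p = q) (f g : Ω → Ω) (h : chkInv all beq f g = true) :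
    (∀ p, g (f p) = p) ∧ (∀ p, f (g p) = p) := by
  constructor
  · intro p
    exact hbeq _ _ (andB_true (hall _ h p)).1
  · intro p
    exact hbeq _ _ (andB_true (hall _ h p)).2

end Checks


section Tree

variable {α Ω : Type} (fwd inv : α → Ω → Ω) (o : Ω)
  (hfi : ∀ x p, inv x (fwd x p) = p) (hif : ∀ x p, fwd x (inv x p) = p)
  (plet : Ω → α × Bool) (idx : Ω → Nat)

/-- flip the sign of a letter -/
noncomputable def flipL (l : α × Bool) : α × Bool :=
  Prod.rec (motive := fun _ => α × Bool) (fun x b => (x, Bool.rec true false b)) l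

theorem flipL_true (x : α) : flipL (x, true) = (x, false) := rfl
theorem flipL_false (x : α) : flipL (x, false) = (x, true) := rfl

include hfi hif in
theorem stepL_flipL (l : α × Bool) (p : Ω) :
    stepL fwd inv l (stepL fwd inv (flipL l) p) = p := by
  obtain ⟨x, b⟩ := l
  cases b
  · rw [flipL_false, stepL_true, stepL_false, hfi]
  · rw [flipL_true, stepL_true, stepL_false, hif]

/-- the parent of a point in the tree -/
noncomputable def parent (p : Ω) : Ω := stepL fwd inv (flipL (plet p)) p

open Classical in
/-- representative word with fuel -/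
noncomputable def repF : Nat → Ω → Word α
  | 0, _ => []
  | f + 1, p => if p = o then [] else plet p :: repF f (parent fwd inv plet p)

/-- representative word of a point -/
noncomputable def repW (p : Ω) : Word α := repF fwd inv o plet (idx p) p

variable (htree : ∀ p, p ≠ o → idx (parent fwd inv plet p) < idx p)

theorem repF_o (f : Nat) : repF fwd inv o plet f o = [] := by
  cases f <;> simp [repF]

include htree in
theorem repF_stable (f1 f2 : Nat) (q : Ω) (h1 : idx q ≤ f1) (h2 : idx q ≤ f2) :
    repF fwd inv o plet f1 q = repF fwd inv o plet f2 q := by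
  induction f1 generalizing f2 q with
  | zero =>
    have hq : q = o := by
      by_contra hne
      have := htree q hne
      omega
    rw [hq, repF_o, repF_o]
  | succ f1 ih =>
    by_cases hq : q = o
    · rw [hq, repF_o, repF_o]
    · have hlt := htree q hq
      cases f2 with
      | zero => omega
      | succ f2 =>
        simp only [repF, hq, if_false]
        rw [ih f2 _ (by omega) (by omega)]

theorem repW_o : repW fwd inv o plet idx o = [] := repF_o fwd inv o plet _

include htree in
theorem repW_ne (p : Ω) (hp : p ≠ o) :
    repW fwd inv o plet idx p = plet p :: repW fwd inv o plet idx (parent fwd inv plet p) := by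
  have hlt := htree p hp
  unfold repW
  obtain ⟨k, hk⟩ : ∃ k, idx p = k + 1 := ⟨idx p - 1, by omega⟩
  rw [hk]
  simp only [repF, hp, if_false]
  rw [repF_stable fwd inv o plet idx htree k (idx (parent fwd inv plet p)) _ (by omega) le_rfl]

include hfi hif htree in
theorem act_repW (p : Ω) : act fwd inv (repW fwd inv o plet idx p) o = p := by
  induction h : idx p using Nat.strong_induction_on generalizing p with
  | _ n ih =>
    by_cases hp : p = o
    · rw [hp, repW_o, act_nil]
    · rw [repW_ne fwd inv o plet idx htree p hp, act_cons,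
        ih _ (by have := htree p hp; omega) _ rfl]
      exact stepL_flipL fwd inv hfi hif (plet p) p

end Tree


section Cert

variable {α Ω : Type} (rels : Set (FreeGroup α)) (S : Set (FreeGroup α))

/-- group element of a word -/
def wG (w : Word α) : PresentedGroup rels := PresentedGroup.mk rels (FreeGroup.mk w)

/-- group element of a letter -/
def lG (l : α × Bool) : PresentedGroup rels := wG rels [l]

theorem wG_nil : wG rels ([] : Word α) = 1 := by
  unfold wG
  have : (FreeGroup.mk ([] : Word α)) = 1 := rfl
  rw [this, map_one]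

theorem wG_append (u v : Word α) : wG rels (u ++ v) = wG rels u * wG rels v := by
  unfold wG
  rw [← map_mul]
  rfl

theorem wG_cons (l : α × Bool) (w : Word α) : wG rels (l :: w) = lG rels l * wG rels w :=
  wG_append rels [l] w

theorem lG_true (x : α) : lG rels (x, true) = PresentedGroup.of x := rfl

theorem lG_false (x : α) : lG rels (x, false) = (PresentedGroup.of x : PresentedGroup rels)⁻¹ := by
  unfold lG wG
  have : FreeGroup.mk [(x, false)] = (FreeGroup.of x)⁻¹ := rfl
  rw [this, map_inv]
  rfl

/-- certificates for a table entry of generator `x` -/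
inductive Cert (x : α) : Type
  | tree : Cert x
  | rel (pos : Bool) (w : Word α) (h : wG rels ((x, pos) :: w) = 1) : Cert x
  | sub (pos : Bool) (u v : Word α)
      (h : (wG rels u)⁻¹ * (lG rels (x, pos) * wG rels v) ∈ subH rels S) : Cert x

variable (fwd inv : α → Ω → Ω) (o : Ω) (lvl : α → Ω → Nat)

/-- one step of a level-bounded scan -/
noncomputable def scanStep (ℓ : Nat) (l : α × Bool) (r : Ω) : Option Ω :=
  Prod.rec (motive := fun _ => Option Ω) (fun x b =>
    Bool.rec (motive := fun _ => Option Ω)
      (Bool.rec (motive := fun _ => Option Ω) none (some (inv x r)) (Nat.blt (lvl x (inv x r)) ℓ))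
      (Bool.rec (motive := fun _ => Option Ω) none (some (fwd x r)) (Nat.blt (lvl x r) ℓ)) b) l

/-- level-bounded scan of a word -/
noncomputable def scan (ℓ : Nat) (w : Word α) (p : Ω) : Option Ω :=
  List.rec (motive := fun _ => Option Ω) (some p)
    (fun l _ ih => Option.rec (motive := fun _ => Option Ω) none
      (fun r => scanStep fwd inv lvl ℓ l r) ih) w

theorem scan_nil (ℓ : Nat) (p : Ω) : scan fwd inv lvl ℓ [] p = some p := rfl

theorem scan_cons (ℓ : Nat) (l : α × Bool) (w : Word α) (p : Ω) :
    scan fwd inv lvl ℓ (l :: w) p =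
      Option.rec (motive := fun _ => Option Ω) none (fun r => scanStep fwd inv lvl ℓ l r)
        (scan fwd inv lvl ℓ w p) := rfl

/-- the scan ends at the given point -/
noncomputable def scanTo (beq : Ω → Ω → Bool) (ℓ : Nat) (w : Word α) (p q : Ω) : Bool :=
  Option.rec (motive := fun _ => Bool) false (fun r => beq r q) (scan fwd inv lvl ℓ w p)

variable (plet : Ω → α × Bool) (idx : Ω → Nat) (beq : Ω → Ω → Bool)
  (leq : α × Bool → α × Bool → Bool)

/-- check of one table entry against its certificate -/
noncomputable def chkEntry (x : α) (c : Cert rels S x) (p : Ω) : Bool :=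
  Cert.rec (motive := fun _ => Bool)
    (orB (andB (Nat.blt (idx p) (idx (fwd x p))) (leq (plet (fwd x p)) (x, true)))
         (andB (Nat.blt (idx (fwd x p)) (idx p)) (leq (plet p) (x, false))))
    (fun pos w _ => Bool.rec
      (scanTo fwd inv lvl beq (lvl x p) w p (fwd x p))
      (scanTo fwd inv lvl beq (lvl x p) w (fwd x p) p) pos)
    (fun pos u v _ => Bool.rec
      (andB (scanTo fwd inv lvl beq (lvl x p) v o (fwd x p)) (scanTo fwd inv lvl beq (lvl x p) u o p))
      (andB (scanTo fwd inv lvl beq (lvl x p) v o p) (scanTo fwd inv lvl beq (lvl x p) u o (fwd x p))) pos)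
    c

end Cert


section CertSound

variable {α Ω : Type} (rels : Set (FreeGroup α)) (S : Set (FreeGroup α))
  (fwd inv : α → Ω → Ω) (o : Ω)
  (hfi : ∀ x p, inv x (fwd x p) = p) (hif : ∀ x p, fwd x (inv x p) = p)
  (lvl : α → Ω → Nat) (plet : Ω → α × Bool) (idx : Ω → Nat)
  (beq : Ω → Ω → Bool) (leq : α × Bool → α × Bool → Bool)
  (hbeq : ∀ p q, beq p q = true → p = q) (hleq : ∀ l m, leq l m = true → l = m)
  (htree : ∀ p, p ≠ o → idx (parent fwd inv plet p) < idx p)

/-- coset of the tree representative -/
noncomputable def psiW (p : Ω) : PresentedGroup rels ⧸ subH rels S :=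
  psi rels S (repW fwd inv o plet idx) p

theorem psiW_def (p : Ω) : psiW rels S fwd inv o plet idx p =
    ((wG rels (repW fwd inv o plet idx p) : PresentedGroup rels) :
      PresentedGroup rels ⧸ subH rels S) := rfl

theorem psiW_o : psiW rels S fwd inv o plet idx o =
    ((1 : PresentedGroup rels) : PresentedGroup rels ⧸ subH rels S) := by
  rw [psiW_def, repW_o, wG_nil]

/-- validity of a table entry -/
def EntryOK (x : α) (p : Ω) : Prop :=
  psiW rels S fwd inv o plet idx (fwd x p) =
    (PresentedGroup.of x : PresentedGroup rels) • psiW rels S fwd inv o plet idx p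

include hif in
theorem scanStep_sound (ℓ : Nat)
    (IH : ∀ x p, lvl x p < ℓ → EntryOK rels S fwd inv o plet idx x p)
    (l : α × Bool) (r r' : Ω) (h : scanStep fwd inv lvl ℓ l r = some r') :
    psiW rels S fwd inv o plet idx r' = lG rels l • psiW rels S fwd inv o plet idx r := by
  obtain ⟨x, b⟩ := l
  cases b
  · -- negative letter
    have h' : Bool.rec (motive := fun _ => Option Ω) none (some (inv x r))
        (Nat.blt (lvl x (inv x r)) ℓ) = some r' := h
    cases hb : Nat.blt (lvl x (inv x r)) ℓ with
    | false => rw [hb] at h'; cases h'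
    | true =>
      rw [hb] at h'
      have hr' : inv x r = r' := Option.some.inj h'
      have hlt : lvl x (inv x r) < ℓ := by
        have := Nat.ble_eq.mp hb
        omega
      have hE := IH x (inv x r) hlt
      unfold EntryOK at hE
      rw [hif] at hE
      rw [lG_false, ← hr', hE, inv_smul_smul]
  · have h' : Bool.rec (motive := fun _ => Option Ω) none (some (fwd x r))
        (Nat.blt (lvl x r) ℓ) = some r' := h
    cases hb : Nat.blt (lvl x r) ℓ with
    | false => rw [hb] at h'; cases h'
    | true =>
      rw [hb] at h'
      have hr' : fwd x r = r' := Option.some.inj h'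
      have hlt : lvl x r < ℓ := by
        have := Nat.ble_eq.mp hb
        omega
      have hE := IH x r hlt
      unfold EntryOK at hE
      rw [lG_true, ← hr', hE]

include hif in
theorem scan_sound (ℓ : Nat)
    (IH : ∀ x p, lvl x p < ℓ → EntryOK rels S fwd inv o plet idx x p)
    (w : Word α) (p r : Ω) (h : scan fwd inv lvl ℓ w p = some r) :
    psiW rels S fwd inv o plet idx r = wG rels w • psiW rels S fwd inv o plet idx p := by
  induction w generalizing r with
  | nil =>
    rw [scan_nil] at h
    rw [wG_nil, one_smul, Option.some.inj h]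
  | cons l w ih =>
    rw [scan_cons] at h
    cases hs : scan fwd inv lvl ℓ w p with
    | none => rw [hs] at h; cases h
    | some r0 =>
      rw [hs] at h
      have h1 := ih r0 hs
      have h2 := scanStep_sound rels S fwd inv o hif lvl plet idx ℓ IH l r0 r h
      rw [h2, h1, wG_cons, mul_smul]

include hif hbeq in
theorem scanTo_sound (ℓ : Nat)
    (IH : ∀ x p, lvl x p < ℓ → EntryOK rels S fwd inv o plet idx x p)
    (w : Word α) (p q : Ω) (h : scanTo fwd inv lvl beq ℓ w p q = true) :
    psiW rels S fwd inv o plet idx q = wG rels w • psiW rels S fwd inv o plet idx p := by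
  unfold scanTo at h
  cases hs : scan fwd inv lvl ℓ w p with
  | none => rw [hs] at h; cases h
  | some r =>
    rw [hs] at h
    have hrq : r = q := hbeq _ _ h
    rw [← hrq]
    exact scan_sound rels S fwd inv o hif lvl plet idx ℓ IH w p r hs



include htree in
theorem psiW_ne (p : Ω) (hp : p ≠ o) : psiW rels S fwd inv o plet idx p =
    lG rels (plet p) • psiW rels S fwd inv o plet idx (parent fwd inv plet p) := by
  rw [psiW_def, psiW_def, repW_ne fwd inv o plet idx htree p hp, wG_cons]
  rfl

variable (hidx0 : idx o = 0)

include hfi hif hbeq hleq htree hidx0 in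
theorem chkEntry_sound (x : α) (c : Cert rels S x) (p : Ω)
    (IH : ∀ y q, lvl y q < lvl x p → EntryOK rels S fwd inv o plet idx y q)
    (h : chkEntry rels S fwd inv o lvl plet idx beq leq x c p = true) :
    EntryOK rels S fwd inv o plet idx x p := by
  unfold EntryOK
  cases c with
  | tree =>
    have h' : orB (andB (Nat.blt (idx p) (idx (fwd x p))) (leq (plet (fwd x p)) (x, true)))
         (andB (Nat.blt (idx (fwd x p)) (idx p)) (leq (plet p) (x, false))) = true := h
    rcases orB_true h' with h1 | h1
    · obtain ⟨ha, hb⟩ := andB_true h1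
      have hlt : idx p < idx (fwd x p) := by
        have := Nat.ble_eq.mp ha
        omega
      have hne : fwd x p ≠ o := by
        intro he
        rw [he, hidx0] at hlt
        omega
      have hl := hleq _ _ hb
      rw [psiW_ne rels S fwd inv o plet idx htree _ hne, hl]
      have hpar : parent fwd inv plet (fwd x p) = p := by
        unfold parent
        rw [hl, flipL_true, stepL_false, hfi]
      rw [hpar, lG_true]
    · obtain ⟨ha, hb⟩ := andB_true h1
      have hlt : idx (fwd x p) < idx p := by
        have := Nat.ble_eq.mp ha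
        omega
      have hne : p ≠ o := by
        intro he
        rw [he, hidx0] at hlt
        omega
      have hl := hleq _ _ hb
      have hpar : parent fwd inv plet p = fwd x p := by
        unfold parent
        rw [hl, flipL_false, stepL_true]
      have := psiW_ne rels S fwd inv o plet idx htree _ hne
      rw [hl, hpar, lG_false] at this
      rw [this, smul_inv_smul]
  | rel pos w hv =>
    cases pos with
    | false =>
      have h' : scanTo fwd inv lvl beq (lvl x p) w p (fwd x p) = true := h
      have h1 := scanTo_sound rels S fwd inv o hif lvl plet idx beq hbeq _ IH w p (fwd x p) h'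
      rw [wG_cons, lG_false] at hv
      have : wG rels w = PresentedGroup.of x := by
        have := congrArg (fun g => PresentedGroup.of x * g) hv
        simpa using this
      rw [h1, this]
    | true =>
      have h' : scanTo fwd inv lvl beq (lvl x p) w (fwd x p) p = true := h
      have h1 := scanTo_sound rels S fwd inv o hif lvl plet idx beq hbeq _ IH w (fwd x p) p h'
      rw [wG_cons, lG_true] at hv
      rw [h1, ← mul_smul, hv, one_smul]
  | sub pos u v hv =>
    cases pos with
    | false =>
      have h' : andB (scanTo fwd inv lvl beq (lvl x p) v o (fwd x p))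
          (scanTo fwd inv lvl beq (lvl x p) u o p) = true := h
      obtain ⟨ha, hb⟩ := andB_true h'
      have h1 := scanTo_sound rels S fwd inv o hif lvl plet idx beq hbeq _ IH v o (fwd x p) ha
      have h2 := scanTo_sound rels S fwd inv o hif lvl plet idx beq hbeq _ IH u o p hb
      rw [h1, h2, psiW_o, ← mul_smul]
      rw [MulAction.Quotient.smul_mk, MulAction.Quotient.smul_mk, QuotientGroup.eq]
      rw [lG_false] at hv
      have := (subH rels S).inv_mem hv
      simpa [mul_assoc] using this
    | true =>
      have h' : andB (scanTo fwd inv lvl beq (lvl x p) v o p)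
          (scanTo fwd inv lvl beq (lvl x p) u o (fwd x p)) = true := h
      obtain ⟨ha, hb⟩ := andB_true h'
      have h1 := scanTo_sound rels S fwd inv o hif lvl plet idx beq hbeq _ IH v o p ha
      have h2 := scanTo_sound rels S fwd inv o hif lvl plet idx beq hbeq _ IH u o (fwd x p) hb
      rw [h1, h2, psiW_o, ← mul_smul]
      rw [MulAction.Quotient.smul_mk, MulAction.Quotient.smul_mk, QuotientGroup.eq]
      rw [lG_true] at hv
      simpa [mul_assoc] using hv

include hfi hif hbeq hleq htree hidx0 in
theorem entries_ok (cert : (x : α) → Ω → Cert rels S x)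
    (hchk : ∀ x p, chkEntry rels S fwd inv o lvl plet idx beq leq x (cert x p) p = true) :
    ∀ x p, EntryOK rels S fwd inv o plet idx x p := by
  intro x p
  induction h : lvl x p using Nat.strong_induction_on generalizing x p with
  | _ n ih =>
    apply chkEntry_sound rels S fwd inv o hfi hif lvl plet idx beq leq hbeq hleq htree hidx0 x
      (cert x p) p _ (hchk x p)
    intro y q hlt
    exact ih _ (h ▸ hlt) y q rfl

include hfi hif hbeq hleq htree hidx0 in
theorem hE_of_entries (cert : (x : α) → Ω → Cert rels S x)
    (hchk : ∀ x p, chkEntry rels S fwd inv o lvl plet idx beq leq x (cert x p) p = true) :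
    ∀ x p, (PresentedGroup.mk rels (FreeGroup.mk (repW fwd inv o plet idx (fwd x p))))⁻¹ *
      (PresentedGroup.of x * PresentedGroup.mk rels (FreeGroup.mk (repW fwd inv o plet idx p))) ∈
        subH rels S := by
  intro x p
  have h := entries_ok rels S fwd inv o hfi hif lvl plet idx beq leq hbeq hleq htree hidx0 cert hchk x p
  unfold EntryOK at h
  rw [psiW_def, psiW_def, MulAction.Quotient.smul_mk, QuotientGroup.eq] at h
  exact h

end CertSound


section Assemble

variable {α Ω : Type} [Fintype Ω] (rels : Set (FreeGroup α)) (S : Set (FreeGroup α))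
  (fwd inv : α → Ω → Ω) (o : Ω)
  (hfi : ∀ x p, inv x (fwd x p) = p) (hif : ∀ x p, fwd x (inv x p) = p)
  (hrel : ∀ r ∈ rels, FreeGroup.lift (permOf fwd inv hfi hif) r = 1)
  (hS : ∀ s ∈ S, FreeGroup.lift (permOf fwd inv hfi hif) s o = o)
  (lvl : α → Ω → Nat) (plet : Ω → α × Bool) (idx : Ω → Nat)
  (beq : Ω → Ω → Bool) (leq : α × Bool → α × Bool → Bool)
  (hbeq : ∀ p q, beq p q = true → p = q) (hleq : ∀ l m, leq l m = true → l = m)
  (htree : ∀ p, p ≠ o → idx (parent fwd inv plet p) < idx p) (hidx0 : idx o = 0)
  (cert : (x : α) → Ω → Cert rels S x)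
  (hchk : ∀ x p, chkEntry rels S fwd inv o lvl plet idx beq leq x (cert x p) p = true)

include hrel hS hbeq hleq htree hidx0 hchk in
theorem index_of_checks : (subH rels S).index = Fintype.card Ω :=
  index_eq rels S fwd inv o hfi hif hrel hS (repW fwd inv o plet idx)
    (repW_o fwd inv o plet idx) (act_repW fwd inv o hfi hif plet idx htree)
    (hE_of_entries rels S fwd inv o hfi hif lvl plet idx beq leq hbeq hleq htree hidx0 cert hchk)

/-- words known to lie in `H` -/
structure HWord where
  w : Word α
  h : wG rels w ∈ subH rels S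

variable (lab : Ω → Nat) (odep : Ω → Nat) (ow : Ω → HWord rels S)
  (hlab : ∀ s ∈ S, ∀ b, lab (FreeGroup.lift (permOf fwd inv hfi hif) s b) = lab b)

omit [Fintype Ω] in
include hlab in
theorem lab_phi (h : PresentedGroup rels) (hh : h ∈ subH rels S) (b : Ω) :
    lab (phi rels fwd inv hfi hif hrel h b) = lab b := by
  obtain ⟨w, hw, rfl⟩ := hh
  rw [phi_mk]
  induction hw using Subgroup.closure_induction generalizing b with
  | mem s hs => exact hlab s hs b
  | one => simp
  | mul a c _ _ ha hc => rw [map_mul, Equiv.Perm.mul_apply, ha, hc]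
  | inv a _ ha =>
    rw [map_inv]
    have := ha ((FreeGroup.lift (permOf fwd inv hfi hif) a)⁻¹ b)
    rw [Equiv.Perm.coe_inv, Equiv.apply_symm_apply] at this
    rw [Equiv.Perm.coe_inv]
    exact this.symm

omit [Fintype Ω] in
include hrel hS hbeq hleq htree hidx0 hchk hlab in
theorem orbit_of_checks (root : Ω) (c : Nat) (hroot : lab root = c)
    (hconn : ∀ b, lab b = c → b ≠ root → odep (act fwd inv (ow b).w b) < odep b) :
    (MulAction.orbit (subH rels S) (psi rels S (repW fwd inv o plet idx) root)).ncard =
      ({b | lab b = c} : Set Ω).ncard := by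
  apply orbit_ncard rels S fwd inv o hfi hif hrel hS (repW fwd inv o plet idx)
    (repW_o fwd inv o plet idx) (act_repW fwd inv o hfi hif plet idx htree)
    (hE_of_entries rels S fwd inv o hfi hif lvl plet idx beq leq hbeq hleq htree hidx0 cert hchk)
  · intro h hh
    show lab _ = c
    rw [lab_phi rels S fwd inv hfi hif hrel lab hlab h hh, hroot]
  · intro b hb
    have hb' : lab b = c := hb
    induction hd : odep b using Nat.strong_induction_on generalizing b with
    | _ n ih =>
      by_cases hbr : b = root
      · exact ⟨1, (subH rels S).one_mem, by rw [map_one, hbr]; rfl⟩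
      · have hlt := hconn b hb' hbr
        set g : PresentedGroup rels := wG rels (ow b).w with hg
        have hgH : g ∈ subH rels S := (ow b).h
        have hact : act fwd inv (ow b).w b = phi rels fwd inv hfi hif hrel g b := by
          rw [hg]; unfold wG; rw [phi_mk, lift_mk_apply]
        have hlab' : lab (act fwd inv (ow b).w b) = c := by
          rw [hact, lab_phi rels S fwd inv hfi hif hrel lab hlab g hgH, hb']
        obtain ⟨h', hh', he⟩ := ih _ (hd ▸ hlt) _ hlab' hlab' rfl
        refine ⟨g⁻¹ * h', (subH rels S).mul_mem ((subH rels S).inv_mem hgH) hh', ?_⟩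
        rw [map_mul, Equiv.Perm.mul_apply, he, hact, map_inv, Equiv.Perm.coe_inv, Equiv.symm_apply_apply]

end Assemble


section Glue

variable {α Ω : Type} (rels : Set (FreeGroup α)) (S : Set (FreeGroup α))

theorem wG_rot (pre : Word α) (l : α × Bool) (post : Word α)
    (h : wG rels (pre ++ l :: post) = 1) : wG rels (l :: (post ++ pre)) = 1 := by
  rw [wG_append, wG_cons] at h
  rw [wG_cons, wG_append]
  have : lG rels l * wG rels post = (wG rels pre)⁻¹ := by
    rw [eq_comm, inv_eq_iff_mul_eq_one]
    exact h
  rw [← mul_assoc, this, inv_mul_cancel]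

theorem wG_invRev (w : Word α) : wG rels (FreeGroup.invRev w) = (wG rels w)⁻¹ := by
  unfold wG
  rw [← map_inv]
  rfl

theorem sub_valid (pre : Word α) (l : α × Bool) (post : Word α)
    (h : wG rels (pre ++ l :: post) ∈ subH rels S) :
    (wG rels (FreeGroup.invRev pre))⁻¹ * (lG rels l * wG rels post) ∈ subH rels S := by
  rw [wG_invRev, inv_inv, ← wG_cons, ← wG_append]
  exact h

theorem hword_inv (w : Word α) (h : wG rels w ∈ subH rels S) :
    wG rels (FreeGroup.invRev w) ∈ subH rels S := by
  rw [wG_invRev]
  exact (subH rels S).inv_mem h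

theorem wG_mem_of_mem (w : Word α) (h : FreeGroup.mk w ∈ S) : wG rels w ∈ subH rels S :=
  ⟨FreeGroup.mk w, Subgroup.subset_closure h, rfl⟩

theorem wG_one_of_mem (w : Word α) (h : FreeGroup.mk w ∈ rels) : wG rels w = 1 :=
  PresentedGroup.one_of_mem h

/-- the word of a Coxeter relator -/
def coxWord (m : Nat) (x y : α) : Word α :=
  (List.replicate m [(x, true), (y, true)]).flatten

theorem coxWord_mk (m : Nat) (x y : α) :
    FreeGroup.mk (coxWord m x y) = (FreeGroup.of x * FreeGroup.of y) ^ m := by
  induction m with
  | zero => rfl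
  | succ m ih =>
    rw [pow_succ', ← ih]
    rfl

variable (fwd inv : α → Ω → Ω)
  (hfi : ∀ x p, inv x (fwd x p) = p) (hif : ∀ x p, fwd x (inv x p) = p)

theorem lift_eq_one_of_act (w : Word α) (h : ∀ p, act fwd inv w p = p) :
    FreeGroup.lift (permOf fwd inv hfi hif) (FreeGroup.mk w) = 1 := by
  ext p
  rw [lift_mk_apply, h]
  rfl

theorem lift_cox_eq_one (m : Nat) (x y : α) (h : ∀ p, act fwd inv (coxWord m x y) p = p) :
    FreeGroup.lift (permOf fwd inv hfi hif) ((FreeGroup.of x * FreeGroup.of y) ^ m) = 1 := by
  rw [← coxWord_mk]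
  exact lift_eq_one_of_act fwd inv hfi hif _ h

theorem lift_cox_symm (m : Nat) (x y : α)
    (h : FreeGroup.lift (permOf fwd inv hfi hif) ((FreeGroup.of x * FreeGroup.of y) ^ m) = 1) :
    FreeGroup.lift (permOf fwd inv hfi hif) ((FreeGroup.of y * FreeGroup.of x) ^ m) = 1 := by
  rw [map_pow, map_mul] at h ⊢
  set a := FreeGroup.lift (permOf fwd inv hfi hif) (FreeGroup.of x)
  set b := FreeGroup.lift (permOf fwd inv hfi hif) (FreeGroup.of y)
  have : (b * a) ^ m = a⁻¹ * (a * b) ^ m * a := by
    have h1 : b * a = a⁻¹ * (a * b) * a⁻¹⁻¹ := by group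
    rw [h1, conj_pow, inv_inv]
  rw [this, h]
  group

theorem lift_fix_of_act (o : Ω) (w : Word α) (h : act fwd inv w o = o) :
    FreeGroup.lift (permOf fwd inv hfi hif) (FreeGroup.mk w) o = o := by
  rw [lift_mk_apply, h]

/-- tree check -/
noncomputable def chkTree (all : (Ω → Bool) → Bool) (o : Ω) (plet : Ω → α × Bool) (idx : Ω → Nat)
    (beq : Ω → Ω → Bool) : Bool :=
  all (fun p => orB (beq p o) (Nat.blt (idx (parent fwd inv plet p)) (idx p)))

theorem chkTree_sound (all : (Ω → Bool) → Bool) (o : Ω) (plet : Ω → α × Bool) (idx : Ω → Nat)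
    (beq : Ω → Ω → Bool) (hall : ∀ f, all f = true → ∀ p, f p = true)
    (hbeq : ∀ p q, beq p q = true → p = q)
    (h : chkTree fwd inv all o plet idx beq = true) :
    ∀ p, p ≠ o → idx (parent fwd inv plet p) < idx p := by
  intro p hp
  rcases orB_true (hall _ h p) with h1 | h1
  · exact absurd (hbeq _ _ h1) hp
  · have := Nat.ble_eq.mp h1
    omega

/-- label preservation check -/
noncomputable def chkLabF (all : (Ω → Bool) → Bool) (lab : Ω → Nat) (wF : List (Ω → Ω)) : Bool :=
  all (fun b => Nat.beq (lab (actF wF b)) (lab b))

theorem chkLabF_sound (all : (Ω → Bool) → Bool) (lab : Ω → Nat)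
    (hall : ∀ f, all f = true → ∀ p, f p = true)
    (w : Word α) (wF : List (Ω → Ω)) (hw : wF = w.map (stepL fwd inv))
    (h : chkLabF all lab wF = true) : ∀ b, lab (act fwd inv w b) = lab b := by
  intro b
  have := hall _ h b
  rw [hw, actF_map] at this
  exact Nat.eq_of_beq_eq_true this

/-- connectivity check of an orbit class -/
noncomputable def chkConn (all : (Ω → Bool) → Bool) (beq : Ω → Ω → Bool) (lab odep : Ω → Nat)
    (ow : Ω → HWord rels S) (root : Ω) (c : Nat) : Bool :=
  all (fun b => orB (Bool.rec true false (Nat.beq (lab b) c))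
    (orB (beq b root) (Nat.blt (odep (act fwd inv (ow b).w b)) (odep b))))

theorem chkConn_sound (all : (Ω → Bool) → Bool) (beq : Ω → Ω → Bool) (lab odep : Ω → Nat)
    (ow : Ω → HWord rels S) (root : Ω) (c : Nat)
    (hall : ∀ f, all f = true → ∀ p, f p = true)
    (hbeq : ∀ p q, beq p q = true → p = q)
    (h : chkConn rels S fwd inv all beq lab odep ow root c = true) :
    ∀ b, lab b = c → b ≠ root → odep (act fwd inv (ow b).w b) < odep b := by
  intro b hb hbr
  rcases orB_true (hall _ h b) with h1 | h1
  · rw [hb, Nat.beq_refl] at h1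
    cases h1
  · rcases orB_true h1 with h2 | h2
    · exact absurd (hbeq _ _ h2) hbr
    · have := Nat.ble_eq.mp h2
      omega

end Glue

end Cfsg.Agent.Helper28
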