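import Cfsg.Agent.Lib.Helper28.TCCheck

/-!
Enumeration of points given by three digits.
-/

set_option autoImplicit false

namespace Cfsg.Agent.Helper28

section Enum3

variable {A B C Ω : Type} (l1 : List A) (l2 : List B) (l3 : List C) (mk : A → B → C → Ω)

/-- check a predicate on all points `mk a b c` -/
noncomputable def all3 (f : Ω → Bool) : Bool :=
  allL (fun a => allL (fun b => allL (fun c => f (mk a b c)) l3) l2) l1

theorem all3_sound (hmk : ∀ p, ∃ a ∈ l1, ∃ b ∈ l2, ∃ c ∈ l3, mk a b c = p) (f : Ω → Bool)
    (h : all3 l1 l2 l3 mk f = true) : ∀ p, f p = true := by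
  intro p
  obtain ⟨a, ha, b, hb, c, hc, rfl⟩ := hmk p
  exact allL_sound _ _ (allL_sound _ _ (allL_sound _ _ h a ha) b hb) c hc

/-- sum over a list, written with the recursor -/
noncomputable def sumL {β : Type} (g : β → Nat) (l : List β) : Nat :=
  List.rec (motive := fun _ => Nat) 0 (fun a _ ih => Nat.add (g a) ih) l

theorem sumL_eq {β : Type} (g : β → Nat) (l : List β) : sumL g l = (l.map g).sum := by
  induction l with
  | nil => rfl
  | cons b l ih =>
    show Nat.add (g b) (sumL g l) = _
    rw [List.map_cons, List.sum_cons, ih]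
    rfl

/-- count the points satisfying a predicate -/
noncomputable def count3 (f : Ω → Bool) : Nat :=
  sumL (fun a => sumL (fun b => countL (fun c => f (mk a b c)) l3) l2) l1

theorem sum_finset_list {β : Type} (l : List β) (hl : l.Nodup) (g : β → Nat) :
    ∑ a ∈ (⟨↑l, hl⟩ : Finset β), g a = sumL g l := by
  rw [sumL_eq]
  rfl

theorem sum_ite_eq_countP {β : Type} (l : List β) (g : β → Bool) :
    (l.map (fun c => if g c = true then 1 else 0)).sum = l.countP g := by
  induction l with
  | nil => rfl
  | cons c l ih =>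
    rw [List.map_cons, List.sum_cons, List.countP_cons, ih]
    cases g c <;> simp <;> omega

theorem count3_eq (e : A × B × C ≃ Ω) (he : ∀ a b c, e (a, b, c) = mk a b c)
    (h1 : l1.Nodup) (h2 : l2.Nodup) (h3 : l3.Nodup)
    (c1 : ∀ a, a ∈ l1) (c2 : ∀ b, b ∈ l2) (c3 : ∀ c, c ∈ l3) (f : Ω → Bool) :
    ({p | f p = true} : Set Ω).ncard = count3 l1 l2 l3 mk f := by
  classical
  have himg : ({p | f p = true} : Set Ω) = e '' {t | f (e t) = true} := by
    ext p
    constructor
    · intro hp
      exact ⟨e.symm p, by simpa using hp, by simp⟩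
    · rintro ⟨t, ht, rfl⟩
      exact ht
  rw [himg, Set.ncard_image_of_injective _ e.injective]
  set FA : Finset A := ⟨↑l1, h1⟩
  set FB : Finset B := ⟨↑l2, h2⟩
  set FC : Finset C := ⟨↑l3, h3⟩
  have hset : ({t | f (e t) = true} : Set (A × B × C)) =
      ↑((FA ×ˢ (FB ×ˢ FC)).filter (fun t => f (e t) = true)) := by
    ext t
    simp only [Set.mem_setOf_eq, Finset.coe_filter, Finset.mem_product]
    constructor
    · intro ht
      exact ⟨⟨c1 _, c2 _, c3 _⟩, ht⟩
    · intro ht
      exact ht.2
  rw [hset, Set.ncard_coe_finset, Finset.card_filter, Finset.sum_product]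
  unfold count3
  rw [sum_finset_list]
  congr 1
  funext a
  rw [Finset.sum_product, sum_finset_list]
  congr 1
  funext b
  rw [countL_eq, sum_finset_list, sumL_eq]
  have : (fun c => if f (e (a, b, c)) = true then 1 else 0) =
      (fun c => if (fun c => f (mk a b c)) c = true then 1 else 0) := by
    funext c
    rw [he]
  rw [this, sum_ite_eq_countP]

end Enum3

end Cfsg.Agent.Helper28
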