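import Cfsg.Agent.Lib.Helper28.TCEnum

/-!
Seeded version of the certificate induction, and lemmas for explicit derivations with
auxiliary ("virtual") cosets.
-/

set_option autoImplicit false

namespace Cfsg.Agent.Helper28

section Seeded

variable {α Ω : Type} (rels : Set (FreeGroup α)) (S : Set (FreeGroup α))
  (fwd inv : α → Ω → Ω) (o : Ω)
  (hfi : ∀ x p, inv x (fwd x p) = p) (hif : ∀ x p, fwd x (inv x p) = p)
  (lvl : α → Ω → Nat) (plet : Ω → α × Bool) (idx : Ω → Nat)
  (beq : Ω → Ω → Bool) (leq : α × Bool → α × Bool → Bool)
  (hbeq : ∀ p q, beq p q = true → p = q) (hleq : ∀ l m, leq l m = true → l = m)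
  (htree : ∀ p, p ≠ o → idx (parent fwd inv plet p) < idx p) (hidx0 : idx o = 0)

include hfi hif hbeq hleq htree hidx0 in
/-- entries are valid when all of them but some "seed" entries pass the certificate check and
the seed entries are valid given all entries of smaller level -/
theorem entries_ok_seeded (cert : (x : α) → Ω → Cert rels S x) (isSeed : α → Ω → Bool)
    (hchk : ∀ x p, orB (isSeed x p)
      (chkEntry rels S fwd inv o lvl plet idx beq leq x (cert x p) p) = true)
    (hseed : ∀ x p, isSeed x p = true →
      (∀ y q, lvl y q < lvl x p → EntryOK rels S fwd inv o plet idx y q) →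
        EntryOK rels S fwd inv o plet idx x p) :
    ∀ x p, EntryOK rels S fwd inv o plet idx x p := by
  intro x p
  induction h : lvl x p using Nat.strong_induction_on generalizing x p with
  | _ n ih =>
    have IH : ∀ y q, lvl y q < lvl x p → EntryOK rels S fwd inv o plet idx y q := by
      intro y q hlt
      exact ih _ (h ▸ hlt) y q rfl
    rcases orB_true (hchk x p) with h1 | h1
    · exact hseed x p h1 IH
    · exact chkEntry_sound rels S fwd inv o hfi hif lvl plet idx beq leq hbeq hleq htree hidx0 x
        (cert x p) p IH h1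

theorem hE_of_ok
    (hok : ∀ x p, EntryOK rels S fwd inv o plet idx x p) :
    ∀ x p, (PresentedGroup.mk rels (FreeGroup.mk (repW fwd inv o plet idx (fwd x p))))⁻¹ *
      (PresentedGroup.of x * PresentedGroup.mk rels (FreeGroup.mk (repW fwd inv o plet idx p))) ∈
        subH rels S := by
  intro x p
  have h := hok x p
  unfold EntryOK at h
  rw [psiW_def, psiW_def, MulAction.Quotient.smul_mk, QuotientGroup.eq] at h
  exact h

variable [Fintype Ω]
  (hrel : ∀ r ∈ rels, FreeGroup.lift (permOf fwd inv hfi hif) r = 1)
  (hS : ∀ s ∈ S, FreeGroup.lift (permOf fwd inv hfi hif) s o = o)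
  (hok : ∀ x p, EntryOK rels S fwd inv o plet idx x p)

include hrel hS htree hok in
theorem index_of_ok : (subH rels S).index = Fintype.card Ω :=
  index_eq rels S fwd inv o hfi hif hrel hS (repW fwd inv o plet idx)
    (repW_o fwd inv o plet idx) (act_repW fwd inv o hfi hif plet idx htree)
    (hE_of_ok rels S fwd inv o plet idx hok)

variable (lab : Ω → Nat) (odep : Ω → Nat) (ow : Ω → HWord rels S)
  (hlab : ∀ s ∈ S, ∀ b, lab (FreeGroup.lift (permOf fwd inv hfi hif) s b) = lab b)

omit [Fintype Ω] in
include hrel hS htree hok hlab in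
theorem orbit_of_ok (root : Ω) (c : Nat) (hroot : lab root = c)
    (hconn : ∀ b, lab b = c → b ≠ root → odep (act fwd inv (ow b).w b) < odep b) :
    (MulAction.orbit (subH rels S) (psi rels S (repW fwd inv o plet idx) root)).ncard =
      ({b | lab b = c} : Set Ω).ncard := by
  apply orbit_ncard rels S fwd inv o hfi hif hrel hS (repW fwd inv o plet idx)
    (repW_o fwd inv o plet idx) (act_repW fwd inv o hfi hif plet idx htree)
    (hE_of_ok rels S fwd inv o plet idx hok)
  · intro h hh
    show lab _ = c
    rw [lab_phi rels S fwd inv hfi hif hrel lab hlab h hh, hroot]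
  · intro b hb
    have hb' : lab b = c := hb
    induction hd : odep b using Nat.strong_induction_on generalizing b with
    | _ n ih =>
      by_cases hbr : b = root
      · exact ⟨1, (subH rels S).one_mem, by rw [map_one, hbr]; rfl⟩
      · have hlt := hconn b hb' hbr
        set g : PresentedGroup rels := wG rels (ow b).w with hg
        have hgH : g ∈ subH rels S := (ow b).h
        have hact : act fwd inv (ow b).w b = phi rels fwd inv hfi hif hrel g b := by
          rw [hg]; unfold wG; rw [phi_mk, lift_mk_apply]
        have hlab' : lab (act fwd inv (ow b).w b) = c := by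
          rw [hact, lab_phi rels S fwd inv hfi hif hrel lab hlab g hgH, hb']
        obtain ⟨h', hh', he⟩ := ih _ (hd ▸ hlt) _ hlab' hlab' rfl
        refine ⟨g⁻¹ * h', (subH rels S).mul_mem ((subH rels S).inv_mem hgH) hh', ?_⟩
        rw [map_mul, Equiv.Perm.mul_apply, he, hact, map_inv, Equiv.Perm.coe_inv, Equiv.symm_apply_apply]

end Seeded


section Paths

variable {α : Type} (rels : Set (FreeGroup α)) (S : Set (FreeGroup α))

/-- the base coset -/
def c0 : PresentedGroup rels ⧸ subH rels S := ((1 : PresentedGroup rels) : PresentedGroup rels ⧸ subH rels S)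

theorem c0_fix (h : PresentedGroup rels) (hh : h ∈ subH rels S) : h • c0 rels S = c0 rels S := by
  unfold c0
  rw [MulAction.Quotient.smul_mk, QuotientGroup.eq]
  simpa using (subH rels S).inv_mem hh

variable {rels S}

theorem path_nil (c : PresentedGroup rels ⧸ subH rels S) : wG rels ([] : Word α) • c = c := by
  rw [wG_nil, one_smul]

theorem path_edge {l : α × Bool} {w : Word α} {cs ca cb : PresentedGroup rels ⧸ subH rels S}
    (h : lG rels l • ca = cb) (hp : wG rels w • cs = ca) : wG rels (l :: w) • cs = cb := by
  rw [wG_cons, mul_smul, hp, h]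

theorem path_eq {w : Word α} {cs ca cb : PresentedGroup rels ⧸ subH rels S}
    (h : ca = cb) (hp : wG rels w • cs = ca) : wG rels w • cs = cb := hp.trans h

theorem lG_flip (l : α × Bool) : lG rels (flipL l) = (lG rels l)⁻¹ := by
  obtain ⟨x, b⟩ := l
  cases b
  · rw [flipL_false, lG_false, lG_true, inv_inv]
  · rw [flipL_true, lG_false, lG_true]

theorem edge_flip {l : α × Bool} {ca cb : PresentedGroup rels ⧸ subH rels S}
    (h : lG rels l • ca = cb) : lG rels (flipL l) • cb = ca := by
  rw [lG_flip, ← h, inv_smul_smul]

theorem gap_rel {l : α × Bool} {B : Word α} {cs ca : PresentedGroup rels ⧸ subH rels S}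
    (hw : wG rels (l :: B) = 1) (hB : wG rels B • cs = ca) : lG rels l • ca = cs := by
  rw [← hB, ← mul_smul, ← wG_cons, hw, one_smul]

theorem loop_rel {W : Word α} {cs ca : PresentedGroup rels ⧸ subH rels S}
    (hw : wG rels W = 1) (hp : wG rels W • cs = ca) : cs = ca := by
  rw [← hp, hw, one_smul]

theorem gap_sub {A : Word α} {l : α × Bool} {B : Word α} {ca cb : PresentedGroup rels ⧸ subH rels S}
    (hw : wG rels (A ++ l :: B) ∈ subH rels S) (hB : wG rels B • c0 rels S = ca)
    (hA : wG rels (FreeGroup.invRev A) • c0 rels S = cb) : lG rels l • ca = cb := by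
  have h1 := c0_fix rels S _ hw
  rw [wG_append, wG_cons, mul_smul, mul_smul, hB] at h1
  rw [← hA, wG_invRev, ← h1, inv_smul_smul]

theorem loop_sub {A B : Word α} {ca cb : PresentedGroup rels ⧸ subH rels S}
    (hw : wG rels (A ++ B) ∈ subH rels S) (hB : wG rels B • c0 rels S = ca)
    (hA : wG rels (FreeGroup.invRev A) • c0 rels S = cb) : ca = cb := by
  have h1 := c0_fix rels S _ hw
  rw [wG_append, mul_smul, hB] at h1
  rw [← hA, wG_invRev, ← h1, inv_smul_smul]

theorem edge_fun {l : α × Bool} {ca cb cb' : PresentedGroup rels ⧸ subH rels S}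
    (h1 : lG rels l • ca = cb) (h2 : lG rels l • ca = cb') : cb = cb' := h1.symm.trans h2

theorem edge_of_path {l : α × Bool} {cs cb : PresentedGroup rels ⧸ subH rels S}
    (hp : wG rels [l] • cs = cb) : lG rels l • cs = cb := hp

theorem edge_congr {l : α × Bool} {ca ca' cb : PresentedGroup rels ⧸ subH rels S}
    (h : lG rels l • ca = cb) (he : ca = ca') : lG rels l • ca' = cb := he ▸ h

end Paths


section RealFacts

variable {α Ω : Type} (rels : Set (FreeGroup α)) (S : Set (FreeGroup α))
  (fwd inv : α → Ω → Ω) (o : Ω)
  (lvl : α → Ω → Nat) (plet : Ω → α × Bool) (idx : Ω → Nat)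

theorem psiW_o_c0 : psiW rels S fwd inv o plet idx o = c0 rels S := psiW_o rels S fwd inv o plet idx

/-- a real table entry of small level as an edge fact -/
theorem real_edge (L : Nat)
    (IH : ∀ y q, lvl y q < L → EntryOK rels S fwd inv o plet idx y q)
    (x : α) (p q : Ω) (hq : fwd x p = q) (h : Nat.blt (lvl x p) L = true) :
    lG rels (x, true) • psiW rels S fwd inv o plet idx p = psiW rels S fwd inv o plet idx q := by
  have hlt : lvl x p < L := by
    have := Nat.ble_eq.mp h
    omega
  have := IH x p hlt
  unfold EntryOK at this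
  rw [lG_true, ← hq, this]

/-- an edge fact between real points gives validity of the entry -/
theorem entryOK_of_edge (x : α) (p : Ω)
    (h : lG rels (x, true) • psiW rels S fwd inv o plet idx p = psiW rels S fwd inv o plet idx (fwd x p)) :
    EntryOK rels S fwd inv o plet idx x p := by
  unfold EntryOK
  rw [← h, lG_true]

end RealFacts

section Rotate

variable {α : Type} (rels : Set (FreeGroup α))

theorem wG_rotate (w : Word α) (k : Nat) (h : wG rels w = 1) : wG rels (w.rotate k) = 1 := by
  rw [List.rotate_eq_drop_append_take_mod, wG_append]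
  have h2 : wG rels (w.take (k % w.length)) * wG rels (w.drop (k % w.length)) = 1 := by
    rw [← wG_append, List.take_append_drop]
    exact h
  rw [mul_eq_one_iff_eq_inv] at h2
  rw [h2, mul_inv_cancel]

theorem wG_of_rotate [DecidableEq α] (w w' : Word α) (k : Nat)
    (hd : decide (w' = w.rotate k) = true) (h : wG rels w = 1) : wG rels w' = 1 := by
  rw [of_decide_eq_true hd]
  exact wG_rotate rels w k h

end Rotate

section Abbrevs

variable {α : Type} (rels : Set (FreeGroup α)) (S : Set (FreeGroup α))

/-- the coset space -/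
abbrev Qt : Type := PresentedGroup rels ⧸ subH rels S

/-- a letter applied to a coset -/
abbrev edge (l : α × Bool) (c : Qt rels S) : Qt rels S := lG rels l • c

end Abbrevs

end Cfsg.Agent.Helper28
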