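import Mathlib
import Cfsg.Agent.Lib.Helper98.WR0
import Cfsg.Agent.Lib.Helper66.SPEQ1
import Cfsg.Agent.Lib.Helper66.SPEQ2

/-!
# WR project (S2347, server helper98), piece M1: a level set of a quadratic form `qv S` with an
anisotropic vector has at most `2 q^(n-1)` points.
-/

set_option autoImplicit false

namespace Cfsg.Agent.Helper28.WR

open Matrix Cfsg.Agent.Helper98.SPE Cfsg.Agent.Helper98.WR

section CNT

variable {F : Type*} [Field F] {n : ℕ}

/-- expansion of `qv` along a line `z + s • x` -/
theorem h28_qv_line (S : Matrix (Fin n) (Fin n) F) (z x : Fin n → F) (s : F) :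
    qv S (z + s • x) = qv S x * s ^ 2 + bv S z x * s + qv S z := by
  have h1 : bv S z (s • x) = s * bv S z x := Cfsg.Agent.Helper66.SPE.bv_smul_right S s z x
  have h2 : qv S (s • x) = s ^ 2 * qv S x := Cfsg.Agent.Helper66.SPE.qv_smul S s x
  have h3 : bv S z (s • x) = qv S (z + s • x) - qv S z - qv S (s • x) := rfl
  rw [h1, h2] at h3
  linear_combination (-1 : F) * h3

/-- a quadratic with nonzero leading coefficient has at most two roots -/
theorem h28_quadratic_roots_card_le [DecidableEq F] [Fintype F] (a b d : F) (ha : a ≠ 0) :
    (Finset.univ.filter (fun s : F => a * s ^ 2 + b * s + d = 0)).card ≤ 2 := by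
  classical
  let p : Polynomial F := Polynomial.C a * Polynomial.X ^ 2 + Polynomial.C b * Polynomial.X + Polynomial.C d
  have hdeg : p.natDegree = 2 := Polynomial.natDegree_quadratic ha
  have hp : p ≠ 0 := by
    intro h
    rw [h] at hdeg
    simp at hdeg
  have hsub : (Finset.univ.filter (fun s : F => a * s ^ 2 + b * s + d = 0)) ⊆ p.roots.toFinset := by
    intro s hs
    rw [Finset.mem_filter] at hs
    rw [Multiset.mem_toFinset, Polynomial.mem_roots hp, Polynomial.IsRoot.def]
    simp only [p, Polynomial.eval_add, Polynomial.eval_mul, Polynomial.eval_C, Polynomial.eval_pow,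
      Polynomial.eval_X]
    exact hs.2
  calc (Finset.univ.filter (fun s : F => a * s ^ 2 + b * s + d = 0)).card
      ≤ p.roots.toFinset.card := Finset.card_le_card hsub
    _ ≤ p.roots.card := Multiset.toFinset_card_le _
    _ ≤ p.natDegree := Polynomial.card_roots' p
    _ = 2 := hdeg

variable [Fintype F] {q : ℕ} (hq : Fintype.card F = q)

set_option linter.unusedVariables false in
include hq in
/-- piece M1. -/
theorem level_card_le (h2 : (2 : F) ≠ 0) (S : Matrix (Fin n) (Fin n) F) (x : Fin n → F)
    (hx : qv S x ≠ 0) (e : F) :
    {z : Fin n → F | qv S z = e}.ncard * q ≤ 2 * q ^ n := by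
  classical
  have hV : Fintype.card (Fin n → F) = q ^ n := by
    rw [Fintype.card_fun, Fintype.card_fin, hq]
  have hL : {z : Fin n → F | qv S z = e}.ncard =
      (Finset.univ.filter (fun z : Fin n → F => qv S z = e)).card := by
    rw [Set.ncard_eq_toFinset_card']
    congr 1
    ext z
    simp
  rw [hL]
  -- double counting
  have hsum1 : ∑ s : F, (Finset.univ.filter (fun z : Fin n → F => qv S (z + s • x) = e)).card =
      (Finset.univ.filter (fun z : Fin n → F => qv S z = e)).card * q := by
    have : ∀ s : F, (Finset.univ.filter (fun z : Fin n → F => qv S (z + s • x) = e)).card =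
        (Finset.univ.filter (fun z : Fin n → F => qv S z = e)).card := by
      intro s
      apply Finset.card_bij (fun z _ => z + s • x)
      · intro z hz
        simp only [Finset.mem_filter, Finset.mem_univ, true_and] at hz ⊢
        exact hz
      · intro z₁ _ z₂ _ h
        exact add_right_cancel h
      · intro w hw
        simp only [Finset.mem_filter, Finset.mem_univ, true_and] at hw
        refine ⟨w - s • x, ?_, by simp⟩
        simp only [Finset.mem_filter, Finset.mem_univ, true_and]
        rw [sub_add_cancel]
        exact hw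
    rw [Finset.sum_congr rfl (fun s _ => this s), Finset.sum_const, Finset.card_univ, hq,
      smul_eq_mul, mul_comm]
  have hsum2 : ∑ s : F, (Finset.univ.filter (fun z : Fin n → F => qv S (z + s • x) = e)).card =
      ∑ z : Fin n → F, (Finset.univ.filter (fun s : F => qv S (z + s • x) = e)).card := by
    simp only [Finset.card_filter]
    exact Finset.sum_comm
  have hz : ∀ z : Fin n → F, (Finset.univ.filter (fun s : F => qv S (z + s • x) = e)).card ≤ 2 := by
    intro z
    have := h28_quadratic_roots_card_le (qv S x) (bv S z x) (qv S z - e) hx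
    refine le_trans (Finset.card_le_card ?_) this
    intro s hs
    simp only [Finset.mem_filter, Finset.mem_univ, true_and] at hs ⊢
    rw [h28_qv_line] at hs
    rw [← hs]
    ring
  calc (Finset.univ.filter (fun z : Fin n → F => qv S z = e)).card * q
      = ∑ z : Fin n → F, (Finset.univ.filter (fun s : F => qv S (z + s • x) = e)).card := by
        rw [← hsum1, hsum2]
    _ ≤ ∑ _z : Fin n → F, 2 := Finset.sum_le_sum (fun z _ => hz z)
    _ = 2 * q ^ n := by
        rw [Finset.sum_const, Finset.card_univ, hV, smul_eq_mul, mul_comm]

end CNT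

end Cfsg.Agent.Helper28.WR
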